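/-
A simple group of order 2520 has 120 Sylow subgroups of order seven, each self-centralizing.
-/
import Mathlib
import Cfsg.Agent.Lib.SmallGroups.Basic
import Cfsg.Agent.Lib.SmallGroups.PrimeSylow
import Cfsg.Agent.Lib.SmallGroups.InvolutionParity

set_option autoImplicit false
set_option linter.style.haveILetI false

namespace Cfsg.Agent.Lib.SmallGroups.Order2520

open Subgroup

variable {G : Type*} [Group G] [Finite G]

/-- An element of a Sylow subgroup of prime order is moved into the normalizer only from inside. -/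
theorem mem_normalizer_of_conj_mem {p : ℕ} [Fact p.Prime] (Q : Sylow p G)
    (hQ : Nat.card (Q : Subgroup G) = p) {x q : G} (hx : x ∈ (Q : Subgroup G)) (hx1 : x ≠ 1)
    (h : q⁻¹ * x * q ∈ normalizer ((Q : Subgroup G) : Set G)) :
    q ∈ normalizer ((Q : Subgroup G) : Set G) := by
  have hzQ := zpowers_eq_of_prime hQ hx hx1
  have hconj : (zpowers (q⁻¹ * x * q)) = (Q : Subgroup G).map (MulAut.conj q⁻¹).toMonoidHom := by
    rw [← hzQ, MonoidHom.map_zpowers]
    simp [MulAut.conj_apply]
  have hcard : Nat.card (zpowers (q⁻¹ * x * q)) = p := by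
    rw [hconj, card_map_of_injective (MulAut.conj q⁻¹).injective, hQ]
  have hpg : IsPGroup p (zpowers (q⁻¹ * x * q)) :=
    IsPGroup.of_card (n := 1) (by rw [hcard, pow_one])
  have hle : zpowers (q⁻¹ * x * q) ≤ (Q : Subgroup G) := by
    have h1 := hpg.inf_normalizer_sylow Q
    have h2 : zpowers (q⁻¹ * x * q) ≤ normalizer (Q : Set G) := zpowers_le.mpr h
    rw [inf_eq_left.mpr h2, eq_comm, inf_eq_left] at h1
    exact h1
  have heq : zpowers (q⁻¹ * x * q) = (Q : Subgroup G) :=
    Subgroup.eq_of_le_of_card_ge hle (by rw [hcard, hQ])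
  have hinv : q⁻¹ ∈ normalizer ((Q : Subgroup G) : Set G) := by
    rw [mem_normalizer_iff]
    intro w
    conv_rhs => rw [← heq, hconj]
    constructor
    · intro hw
      exact ⟨w, hw, by simp [MulAut.conj_apply]⟩
    · rintro ⟨v, hv, hvw⟩
      simp only [MulEquiv.coe_toMonoidHom, MulAut.conj_apply] at hvw
      rwa [mul_left_cancel (mul_right_cancel hvw)] at hv
  simpa using (normalizer ((Q : Subgroup G) : Set G)).inv_mem hinv

variable [IsSimpleGroup G]

theorem not_comm (h : Nat.card G = 2520) : ¬ IsMulCommutative G :=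
  not_isMulCommutative_of_not_prime (by rw [h]; norm_num)

theorem normalizer_five_cases (h : Nat.card G = 2520) [Fact (Nat.Prime 5)] (Q : Sylow 5 G) :
    Nat.card (Q : Subgroup G) = 5 ∧ Nat.card (normalizer ((Q : Subgroup G) : Set G)) ∈
      ({120, 70, 45, 20} : Finset ℕ) := by
  have hG := not_comm h
  refine ⟨(card_sylow_eq Q (k := 1) (m := 504) (by rw [h]; norm_num) (by norm_num)).trans (pow_one 5), ?_⟩
  have hn := card_sylow_mem hG (p := 5) (k := 1) (m := 504) (by rw [h]; norm_num) (by norm_num) one_ne_zero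
  rw [show (Nat.divisors 504).filter (fun d => d % 5 = 1 ∧ d ≠ 1) = {6, 21, 36, 56, 126} from by
    decide +kernel] at hn
  have hfac := two_mul_card_dvd_factorial_card_sylow hG (p := 5) (by rw [h]; norm_num)
  have hmul := card_normalizer_sylow_mul Q
  rw [h] at hmul hfac
  simp only [Finset.mem_insert, Finset.mem_singleton] at hn ⊢
  rcases hn with hn | hn | hn | hn | hn <;> rw [hn] at hmul hfac <;>
    first
      | omega
      | (exfalso; norm_num [Nat.factorial] at hfac)

theorem false_of_thirty_five (h : Nat.card G = 2520) [Fact (Nat.Prime 7)] (P : Sylow 7 G)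
    (hP : Nat.card (P : Subgroup G) = 7)
    (hN : Nat.card (normalizer ((P : Subgroup G) : Set G)) = 70)
    (hC : Nat.card (centralizer ((P : Subgroup G) : Set G)) = 35) : False := by
  classical
  haveI : Fact (Nat.Prime 5) := ⟨by norm_num⟩
  haveI : Fact (Nat.Prime 2) := ⟨Nat.prime_two⟩
  have hG := not_comm h
  set N := normalizer ((P : Subgroup G) : Set G) with hNdef
  set C := centralizer ((P : Subgroup G) : Set G) with hCdef
  have hCN : C ≤ N := centralizer_le_normalizer' _
  obtain ⟨⟨x, hxP⟩, hx7⟩ := exists_prime_orderOf_dvd_card' (G := (P : Subgroup G)) 7 (dvd_of_eq hP.symm)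
  rw [orderOf_mk] at hx7
  obtain ⟨⟨y, hyC⟩, hy5⟩ := exists_prime_orderOf_dvd_card' (G := C) 5 (by rw [hC]; norm_num)
  rw [orderOf_mk] at hy5
  have hxC : x ∈ C := le_centralizer_of_prime hP hxP
  have hxy : Commute x y := mem_centralizer_iff.mp hyC x hxP
  have hz35 : orderOf (x * y) = 35 := by
    rw [hxy.orderOf_mul_eq_mul_orderOf_of_coprime (by rw [hx7, hy5]; norm_num), hx7, hy5]
  set z := x * y with hzdef
  have hzC : zpowers z = C :=
    Subgroup.eq_of_le_of_card_ge (zpowers_le.mpr (C.mul_mem hxC hyC))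
      (by rw [hC, Nat.card_zpowers, hz35])
  have hyz : y ∈ zpowers z := hzC ▸ hyC
  -- the two normalizers agree
  have hQc : Nat.card (zpowers y) = 5 ^ (Nat.card G).factorization 5 := by
    have h5 : (Nat.card G).factorization 5 = 1 := by
      rw [h, show (2520 : ℕ) = 5 ^ 1 * 504 by norm_num,
        Nat.factorization_mul (by norm_num) (by norm_num), (Fact.out : Nat.Prime 5).factorization_pow]
      simp [Nat.factorization_eq_zero_of_not_dvd (n := 504) (p := 5) (by norm_num)]
    rw [Nat.card_zpowers, hy5, h5, pow_one]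
  let Q : Sylow 5 G := Sylow.ofCard (zpowers y) hQc
  obtain ⟨hQ5, hNQ⟩ := normalizer_five_cases h Q
  set N5 := normalizer ((Q : Subgroup G) : Set G) with hN5def
  have hQy : (Q : Subgroup G) = zpowers y := rfl
  have hmulC : ∀ a ∈ C, ∀ b ∈ C, a * b = b * a := by
    intro a ha b hb
    rw [← hzC] at ha hb
    obtain ⟨i, rfl⟩ := mem_zpowers_iff.mp ha
    obtain ⟨j, rfl⟩ := mem_zpowers_iff.mp hb
    rw [← zpow_add, ← zpow_add, add_comm]
  have hyy : y ≠ 1 := fun hh => by rw [hh, orderOf_one] at hy5; norm_num at hy5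
  have hxx : x ≠ 1 := fun hh => by rw [hh, orderOf_one] at hx7; norm_num at hx7
  have hNN5 : N ≤ N5 := by
    intro g hg
    have hconjC : g * y * g⁻¹ ∈ C := by
      refine mem_centralizer_iff.mpr fun w hw => ?_
      have hw' : g⁻¹ * w * g ∈ (P : Subgroup G) := by
        have := (mem_normalizer_iff.mp (N.inv_mem hg) w).mp hw
        simpa using this
      have h1 := mem_centralizer_iff.mp hyC _ hw'
      calc w * (g * y * g⁻¹) = g * ((g⁻¹ * w * g) * y) * g⁻¹ := by group
        _ = g * (y * (g⁻¹ * w * g)) * g⁻¹ := by rw [h1]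
        _ = g * y * g⁻¹ * w := by group
    rw [← hzC] at hconjC
    obtain ⟨j, hj⟩ := mem_zpowers_iff.mp hconjC
    have hpow : z ^ (j * 5) = 1 := by
      rw [zpow_mul, hj, show (5 : ℤ) = ((5 : ℕ) : ℤ) by norm_num, zpow_natCast, conj_pow, ← hy5,
        pow_orderOf_eq_one, mul_one, mul_inv_cancel]
    rw [← orderOf_dvd_iff_zpow_eq_one, hz35] at hpow
    obtain ⟨l, hl⟩ : (7 : ℤ) ∣ j := by
      have h7 : (35 : ℤ) ∣ j * 5 := hpow
      omega
    have hmem : g * y * g⁻¹ ∈ zpowers y := by
      rw [← hj, hl, zpow_mul, show (7 : ℤ) = ((7 : ℕ) : ℤ) by norm_num, zpow_natCast, hzdef,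
        hxy.mul_pow, ← hx7, pow_orderOf_eq_one, one_mul, hx7]
      exact zpow_mem (pow_mem (mem_zpowers y) 7) l
    have heq : (zpowers y).map (MulAut.conj g).toMonoidHom = zpowers y := by
      refine Subgroup.eq_of_le_of_card_ge ?_ (by rw [card_map_of_injective (MulAut.conj g).injective])
      rw [MonoidHom.map_zpowers, zpowers_le]
      simpa [MulAut.conj_apply] using hmem
    rw [hN5def, hQy, mem_normalizer_iff]
    intro w
    conv_rhs => rw [← heq]
    constructor
    · exact fun hw => ⟨w, hw, by simp [MulAut.conj_apply]⟩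
    · rintro ⟨v, hv, hvw⟩
      simp only [MulEquiv.coe_toMonoidHom, MulAut.conj_apply] at hvw
      rwa [mul_left_cancel (mul_right_cancel hvw)] at hv
  have hN5card : Nat.card N5 = 70 := by
    have hd := card_dvd_of_le hNN5
    rw [hN] at hd
    simp only [Finset.mem_insert, Finset.mem_singleton] at hNQ
    rcases hNQ with hq | hq | hq | hq <;> rw [hq] at hd <;> first | exact hq | norm_num at hd
  have hNeq : N = N5 := Subgroup.eq_of_le_of_card_ge hNN5 (by rw [hN5card, hN])
  -- an involution inverting the centralizer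
  obtain ⟨⟨c, hcN⟩, hc2⟩ := exists_prime_orderOf_dvd_card' (G := N) 2 (by rw [hN]; norm_num)
  rw [orderOf_mk] at hc2
  have hci : c⁻¹ = c := inv_eq_of_mul_eq_one_right (by rw [← sq, ← hc2, pow_orderOf_eq_one])
  have hcc : c * c = 1 := by rw [← sq, ← hc2, pow_orderOf_eq_one]
  have hcP : ¬ c ∈ C := fun hh => by
    have := orderOf_dvd_natCard C hh
    rw [hc2, hC] at this; norm_num at this
  have hcQ : ¬ c * y = y * c := by
    intro hh
    obtain ⟨e, he, he1, -, hNc⟩ := exists_card_normalizer_eq_of_simple hG Q hQ5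
    have hmem : c ∈ centralizer ((Q : Subgroup G) : Set G) := by
      rw [← centralizer_eq_of_prime hQ5 (hQy ▸ mem_zpowers y) hyy, mem_centralizer_singleton_iff]
      exact hh
    have h2 := orderOf_dvd_natCard _ hmem
    rw [hc2] at h2
    rw [← hN5def, hN5card] at hNc
    obtain ⟨d, hd⟩ := h2
    rw [hd] at hNc
    have he4 := Nat.le_of_dvd (by norm_num) he
    interval_cases e <;> omega
  have hconjC : ∀ k ∈ C, c * k * c ∈ C := by
    intro k hk
    refine mem_centralizer_iff.mpr fun w hw => ?_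
    have hw' : c * w * c ∈ (P : Subgroup G) := by
      have := (mem_normalizer_iff.mp hcN w).mp hw
      rwa [hci] at this
    have h1 := mem_centralizer_iff.mp hk _ hw'
    calc w * (c * k * c) = c * c * (w * (c * k * c)) := by rw [hcc, one_mul]
      _ = c * ((c * w * c) * k) * c := by group
      _ = c * (k * (c * w * c)) * c := by rw [h1]
      _ = c * k * c * w * (c * c) := by group
      _ = _ := by rw [hcc, mul_one]
  have hinvert : ∀ k ∈ C, c * k * c = k⁻¹ := by
    intro k hk
    set w := k * (c * k * c) with hw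
    have hwC : w ∈ C := C.mul_mem hk (hconjC k hk)
    have hwc : c * w = w * c := by
      rw [hw]
      calc c * (k * (c * k * c)) = (c * k * c) * k * c := by group
        _ = k * (c * k * c) * c := by rw [hmulC _ (hconjC k hk) k hk]
    have hw1 : ∀ m : ℕ, w ^ m ∈ C ∧ c * w ^ m = w ^ m * c := fun m =>
      ⟨C.pow_mem hwC m, (Commute.pow_right hwc m).eq⟩
    have h5 : w ^ 5 = 1 := by
      by_contra hne
      obtain ⟨hm, hmc⟩ := hw1 5
      rw [← hzC] at hm hwC
      obtain ⟨j, hj⟩ := mem_zpowers_iff.mp hwC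
      have hxP' : w ^ 5 ∈ (P : Subgroup G) := by
        rw [← hj, ← zpow_natCast, ← zpow_mul, mul_comm, zpow_mul, zpow_natCast, hzdef, hxy.mul_pow,
          ← hy5, pow_orderOf_eq_one, mul_one]
        exact (P : Subgroup G).zpow_mem ((P : Subgroup G).pow_mem hxP _) j
      exact hcP (by
        rw [hCdef, ← centralizer_eq_of_prime hP hxP' hne, mem_centralizer_singleton_iff]
        exact hmc)
    have h7 : w ^ 7 = 1 := by
      by_contra hne
      obtain ⟨hm, hmc⟩ := hw1 7
      rw [← hzC] at hwC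
      obtain ⟨j, hj⟩ := mem_zpowers_iff.mp hwC
      have hQ' : w ^ 7 ∈ zpowers y := by
        rw [← hj, ← zpow_natCast, ← zpow_mul, mul_comm, zpow_mul, zpow_natCast, hzdef, hxy.mul_pow,
          ← hx7, pow_orderOf_eq_one, one_mul]
        exact zpow_mem (pow_mem (mem_zpowers y) _) j
      refine hcQ ?_
      have hy' : y ∈ zpowers (w ^ 7) := by
        rw [zpowers_eq_of_prime (p := 5) (by rw [Nat.card_zpowers, hy5]) hQ' hne]
        exact mem_zpowers y
      obtain ⟨i, hi⟩ := mem_zpowers_iff.mp hy'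
      rw [← hi]
      exact ((show Commute c (w ^ 7) from hmc).zpow_right i).eq
    have hw0 : w = 1 := by
      have h15 : w ^ (5 * 3) = 1 := by rw [pow_mul, h5, one_pow]
      have h14 : w ^ (7 * 2) = 1 := by rw [pow_mul, h7, one_pow]
      rw [show 5 * 3 = 7 * 2 + 1 by norm_num, pow_succ, h14, one_mul] at h15
      exact h15
    exact eq_inv_of_mul_eq_one_right hw0
  -- the action on the conjugates
  have hX : Nat.card (G ⧸ N) = 36 := by
    have h1 := N.card_mul_index
    rw [hN, h] at h1
    rw [← index_eq_card]; omega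
  set base : G ⧸ N := QuotientGroup.mk 1 with hbase
  obtain ⟨a0, ha0⟩ : ∃ a : G ⧸ N, a ≠ base := by
    haveI : Nontrivial (G ⧸ N) := Finite.one_lt_card_iff_nontrivial.mp (by rw [hX]; norm_num)
    exact exists_ne base
  have hfree : ∀ k ∈ C, ∀ a : G ⧸ N, a ≠ base → k • a = a → k = 1 := by
    intro k hk a ha hka
    obtain ⟨q, rfl⟩ := QuotientGroup.mk_surjective a
    have hq : q⁻¹ * k * q ∈ N := by
      have h1 : QuotientGroup.mk (k * q) = (QuotientGroup.mk q : G ⧸ N) := hka
      rw [QuotientGroup.eq] at h1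
      simpa [mul_assoc] using N.inv_mem h1
    have hqN : q ∉ N := fun hh => ha ((QuotientGroup.eq).mpr (by simpa using hh))
    rw [← hzC] at hk
    obtain ⟨j, rfl⟩ := mem_zpowers_iff.mp hk
    have hqm : ∀ m : ℕ, q⁻¹ * (z ^ j) ^ m * q ∈ N := fun m => by
      have := N.pow_mem hq m
      rwa [show q⁻¹ * z ^ j * q = q⁻¹ * z ^ j * q⁻¹⁻¹ by rw [inv_inv], conj_pow, inv_inv] at this
    have h5 : (z ^ j) ^ 5 = 1 := by
      by_contra hne
      refine hqN (mem_normalizer_of_conj_mem P hP ?_ hne (hqm 5))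
      rw [← zpow_natCast, ← zpow_mul, mul_comm, zpow_mul, zpow_natCast, hzdef, hxy.mul_pow, ← hy5,
        pow_orderOf_eq_one, mul_one]
      exact (P : Subgroup G).zpow_mem ((P : Subgroup G).pow_mem hxP _) j
    have h7 : (z ^ j) ^ 7 = 1 := by
      by_contra hne
      refine hqN (hNeq ▸ mem_normalizer_of_conj_mem Q hQ5 ?_ hne (by rw [← hN5def, ← hNeq]; exact hqm 7))
      rw [hQy, ← zpow_natCast, ← zpow_mul, mul_comm, zpow_mul, zpow_natCast, hzdef, hxy.mul_pow, ← hx7,
        pow_orderOf_eq_one, one_mul]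
      exact zpow_mem (pow_mem (mem_zpowers y) _) j
    have h15 : (z ^ j) ^ (5 * 3) = 1 := by rw [pow_mul, h5, one_pow]
    have h14 : (z ^ j) ^ (7 * 2) = 1 := by rw [pow_mul, h7, one_pow]
    rwa [show 5 * 3 = 7 * 2 + 1 by norm_num, pow_succ, h14, one_mul] at h15
  have hfixC : ∀ k ∈ C, k • base = base := by
    intro k hk
    show QuotientGroup.mk (k * 1) = QuotientGroup.mk 1
    rw [QuotientGroup.eq, mul_one, mul_one]
    exact N.inv_mem (hCN hk)
  let f : C → {a : G ⧸ N // a ≠ base} := fun k => ⟨(k : G) • a0, fun he => ha0 (by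
    rw [← inv_smul_smul (k : G) a0, he, hfixC _ (C.inv_mem k.2)])⟩
  have hf : Function.Bijective f := by
    have hinj : Function.Injective f := by
      intro k k' hkk
      have h1 : (k : G) • a0 = (k' : G) • a0 := congrArg Subtype.val hkk
      have h2 := hfree ((k' : G)⁻¹ * k) (C.mul_mem (C.inv_mem k'.2) k.2) a0 ha0
        (by rw [mul_smul, h1, inv_smul_smul])
      exact Subtype.ext (inv_mul_eq_one.mp h2).symm
    refine (Nat.bijective_iff_injective_and_card f).mpr ⟨hinj, ?_⟩
    haveI := Fintype.ofFinite (G ⧸ N)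
    rw [hC, Nat.card_eq_fintype_card, Fintype.card_subtype_compl, Fintype.card_subtype_eq,
      ← Nat.card_eq_fintype_card, hX]
  have hcb : c • base = base := by
    show QuotientGroup.mk (c * 1) = QuotientGroup.mk 1
    rw [QuotientGroup.eq, mul_one, mul_one]
    exact N.inv_mem hcN
  obtain ⟨⟨k0, hk0⟩, hk0'⟩ := hf.2 ⟨c • a0, fun he => ha0 (by
    rw [← inv_smul_smul c a0, he, hci, hcb])⟩
  have hk0a : k0 • a0 = c • a0 := congrArg Subtype.val hk0'
  have hz35' : z ^ 35 = 1 := by rw [← hz35]; exact pow_orderOf_eq_one z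
  have hpow35 : ∀ k ∈ C, k ^ 35 = 1 := by
    intro k hk
    rw [← hzC] at hk
    obtain ⟨j, rfl⟩ := mem_zpowers_iff.mp hk
    rw [← zpow_natCast, ← zpow_mul, mul_comm, zpow_mul, zpow_natCast, hz35', one_zpow]
  have hfix : MulAction.fixedBy (G ⧸ N) c = {base, k0 ^ 18 • a0} := by
    ext a
    rw [MulAction.mem_fixedBy, Set.mem_insert_iff, Set.mem_singleton_iff]
    have hcalc : ∀ k ∈ C, c • k • a0 = (k⁻¹ * k0) • a0 := fun k hk => by
      rw [mul_smul, hk0a, smul_smul, smul_smul, ← hinvert k hk, mul_assoc (c * k) c c, hcc, mul_one]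
    constructor
    · intro hca
      by_cases ha : a = base
      · exact Or.inl ha
      · obtain ⟨⟨k, hk⟩, hk'⟩ := hf.2 ⟨a, ha⟩
        have hka : k • a0 = a := congrArg Subtype.val hk'
        refine Or.inr ?_
        rw [← hka, hcalc k hk] at hca
        have h1 := hfree (k⁻¹ * (k⁻¹ * k0)) (C.mul_mem (C.inv_mem hk) (C.mul_mem (C.inv_mem hk) hk0))
          a0 ha0 (by rw [mul_smul, hca, inv_smul_smul])
        have h2 : k0 = k * k := by
          calc k0 = k * (k * (k⁻¹ * (k⁻¹ * k0))) := by group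
            _ = _ := by rw [h1, mul_one]
        rw [← hka, h2, ← sq, ← pow_mul, show 2 * 18 = 35 + 1 by norm_num, pow_succ, hpow35 k hk,
          one_mul]
    · rintro (rfl | rfl)
      · exact hcb
      · rw [hcalc _ (C.pow_mem hk0 18)]
        congr 1
        refine mul_left_cancel (a := k0 ^ 18) ?_
        rw [mul_inv_cancel_left, ← pow_add, show 18 + 18 = 35 + 1 by norm_num, pow_succ,
          hpow35 k0 hk0, one_mul]
  have hne : base ≠ k0 ^ 18 • a0 := (f ⟨k0 ^ 18, C.pow_mem hk0 18⟩).2.symm
  have hpar := card_fixedBy_mod_four hG (X := G ⧸ N) hc2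
  rw [hfix, Nat.card_coe_set_eq, Set.ncard_pair hne, hX] at hpar
  omega

/-- The local data at seven. -/
theorem seven_data (h : Nat.card G = 2520) [Fact (Nat.Prime 7)] (P : Sylow 7 G) :
    Nat.card (P : Subgroup G) = 7 ∧ Nat.card (Sylow 7 G) = 120 ∧
      Nat.card (centralizer ((P : Subgroup G) : Set G)) = 7 ∧
      Nat.card (normalizer ((P : Subgroup G) : Set G)) = 21 := by
  have hG := not_comm h
  have hP : Nat.card (P : Subgroup G) = 7 :=
    (card_sylow_eq P (k := 1) (m := 360) (by rw [h]; norm_num) (by norm_num)).trans (pow_one 7)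
  have hn := card_sylow_mem hG (p := 7) (k := 1) (m := 360) (by rw [h]; norm_num) (by norm_num) one_ne_zero
  rw [show (Nat.divisors 360).filter (fun d => d % 7 = 1 ∧ d ≠ 1) = {8, 15, 36, 120} from by
    decide +kernel] at hn
  have hmul := card_normalizer_sylow_mul P
  obtain ⟨e, he, he1, hC7, hNc⟩ := exists_card_normalizer_eq_of_simple hG P hP
  obtain ⟨d, hd⟩ := hC7
  rw [h, hNc, hd] at hmul
  have he6 : e ≤ 6 := Nat.le_of_dvd (by norm_num) he
  simp only [Finset.mem_insert, Finset.mem_singleton] at hn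
  rcases hn with hn | hn | hn | hn
  · exfalso
    have hk := card_centralizer_dvd_of_card_sylow hG (k := 1) P hP (by rw [hn])
    rw [hd] at hk
    have := Nat.le_of_dvd (by norm_num [Nat.factorial]) hk
    norm_num [Nat.factorial] at this
    rw [hn] at hmul
    interval_cases e <;> omega
  · exfalso
    have hk := card_centralizer_dvd_of_card_sylow hG (k := 2) P hP (by rw [hn])
    rw [hd] at hk
    have := Nat.le_of_dvd (by norm_num [Nat.factorial]) hk
    norm_num [Nat.factorial] at this
    rw [hn] at hmul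
    interval_cases e <;> omega
  · exfalso
    rw [hn] at hmul
    have h10 : e * d = 10 := by
      have : e * (7 * d) = 7 * (e * d) := by ring
      omega
    have : e = 2 ∧ d = 5 := by
      have hde : e ∣ 10 := Dvd.intro d h10
      interval_cases e <;> omega
    obtain ⟨rfl, rfl⟩ := this
    exact false_of_thirty_five h P hP (by rw [hNc, hd]) (by rw [hd])
  · rw [hn] at hmul
    have h3 : e * d = 3 := by
      have : e * (7 * d) = 7 * (e * d) := by ring
      omega
    have hed : e = 3 ∧ d = 1 := by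
      interval_cases e <;> omega
    exact ⟨hP, hn, by rw [hd, hed.2], by rw [hNc, hd, hed.1, hed.2]⟩

theorem card_centralizer_seven (h : Nat.card G = 2520) {x : G} (hx : orderOf x = 7) :
    Nat.card (centralizer ({x} : Set G)) = 7 := by
  haveI : Fact (Nat.Prime 7) := ⟨by norm_num⟩
  have hfac : (Nat.card G).factorization 7 = 1 := by
    rw [h, show (2520 : ℕ) = 7 ^ 1 * 360 by norm_num,
      Nat.factorization_mul (by norm_num) (by norm_num), (Fact.out : Nat.Prime 7).factorization_pow]
    simp [Nat.factorization_eq_zero_of_not_dvd (n := 360) (p := 7) (by norm_num)]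
  let P : Sylow 7 G := Sylow.ofCard (zpowers x) (by rw [Nat.card_zpowers, hx, hfac, pow_one])
  obtain ⟨hP, -, hC, -⟩ := seven_data h P
  rw [centralizer_eq_of_prime hP (mem_zpowers x) (fun hh => by rw [hh, orderOf_one] at hx; norm_num at hx)]
  exact hC

end Cfsg.Agent.Lib.SmallGroups.Order2520
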