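/-
The principal block at seven of a simple group of order 2520.
-/
import Mathlib
import Cfsg.Agent.Lib.BrauerTuan.Main
import Cfsg.Agent.Lib.BrauerTuan.SmallBlock
import Cfsg.Agent.Lib.BrauerTuan.InvolutionDet
import Cfsg.Agent.Lib.BrauerTuan.Simple
import Cfsg.Agent.Lib.SmallGroups.PrimeChar.Involutions
import Cfsg.Agent.Lib.SmallGroups.Order2520.Seven

set_option autoImplicit false
set_option linter.unusedSectionVars false
set_option linter.style.haveILetI false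

namespace Cfsg.Agent.Lib.SmallGroups.Order2520

open scoped ComplexConjugate
open Finset Subgroup Cfsg Cfsg.Agent.Lib
open Cfsg.Agent.Lib.DefectOne Cfsg.Agent.Lib.BrauerReynolds Cfsg.Agent.Lib.BrauerTuan
open Cfsg.Agent.Lib.SmallGroups.PrimeChar (xp xp_one)

universe u

variable {G : Type u} [Group G] [Fintype G]

/-- The signed degree. -/
def sgn (f : ℕ) : ℤ := if f % 7 = 1 then 1 else -1

theorem mem_degA : ∀ f ∈ List.range 51, f ∣ 360 → 1 < f → (f % 7 = 1 ∨ f % 7 = 6) →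
    f ∈ [6, 8, 15, 20, 36] := by decide +kernel

theorem mem_degB : ∀ g ∈ List.range 51, g ∣ 360 → (g % 7 = 3 ∨ g % 7 = 4) →
    g ∈ [3, 4, 10, 18, 24, 45] := by decide +kernel

theorem table : ∀ f ∈ [6, 8, 15, 20, 36], ∀ f' ∈ [6, 8, 15, 20, 36], ∀ g ∈ [3, 4, 10, 18, 24, 45],
    ∀ e ∈ [(1 : ℤ), -1], e * (g : ℕ) = 1 + sgn f * (f : ℕ) + sgn f' * (f' : ℕ) →
    1 + f * f + f' * f' + 2 * (g * g) ≤ 2520 → f ≤ f' →
    (f, f', g, e) ∈ [(6, 8, 3, (1 : ℤ)), (6, 15, 10, 1), (8, 15, 24, 1), (15, 20, 4, -1)] := by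
  decide +kernel

/-- The block data. -/
structure Seven (x : G) (χ₁ χ₂ θ₁ θ₂ : IrrCharacter G) (f₁ f₂ g : ℕ) (ε : ℤ) : Prop where
  order_x : orderOf x = 7
  deg₁ : degOf χ₁ = f₁
  deg₂ : degOf χ₂ = f₂
  deg₃ : degOf θ₁ = g
  deg₄ : degOf θ₂ = g
  ne₁ : χ₁ ≠ Chars.trivialIrr G
  ne₂ : χ₂ ≠ Chars.trivialIrr G
  ne₃ : θ₁ ≠ Chars.trivialIrr G
  ne₄ : θ₂ ≠ Chars.trivialIrr G
  ne₁₂ : χ₁ ≠ χ₂
  ne₁₃ : χ₁ ≠ θ₁
  ne₁₄ : χ₁ ≠ θ₂
  ne₂₃ : χ₂ ≠ θ₁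
  ne₂₄ : χ₂ ≠ θ₂
  ne₃₄ : θ₁ ≠ θ₂
  val₁ : (χ₁ : G → ℂ) x = (sgn f₁ : ℂ)
  val₂ : (χ₂ : G → ℂ) x = (sgn f₂ : ℂ)
  sumθ : (θ₁ : G → ℂ) x + (θ₂ : G → ℂ) x = -(ε : ℂ)
  rest : ∀ χ : IrrCharacter G, χ ≠ Chars.trivialIrr G → χ ≠ χ₁ → χ ≠ χ₂ → χ ≠ θ₁ → χ ≠ θ₂ →
    ∀ j : ZMod 7, j ≠ 0 → (χ : G → ℂ) (xp 7 x j) = 0
  rel₁ : ∀ h : G, ¬ 7 ∣ orderOf h → (ε : ℂ) * (θ₁ : G → ℂ) h =
    1 + (sgn f₁ : ℂ) * (χ₁ : G → ℂ) h + (sgn f₂ : ℂ) * (χ₂ : G → ℂ) h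
  rel₂ : ∀ h : G, ¬ 7 ∣ orderOf h → (θ₂ : G → ℂ) h = (θ₁ : G → ℂ) h
  regular : ∀ h : G, 7 ∣ orderOf h → orderOf h = 7

theorem exists_seven [IsSimpleGroup G] (h : Nat.card G = 2520) :
    ∃ (x : G) (χ₁ χ₂ θ₁ θ₂ : IrrCharacter G) (f₁ f₂ g : ℕ) (ε : ℤ),
      Seven x χ₁ χ₂ θ₁ θ₂ f₁ f₂ g ε ∧
      (f₁, f₂, g, ε) ∈ [(6, 8, 3, (1 : ℤ)), (6, 15, 10, 1), (8, 15, 24, 1), (15, 20, 4, -1)] := by
  classical
  haveI : Fact (Nat.Prime 7) := ⟨by norm_num⟩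
  have hG := not_comm h
  have hR := reduced_of_simple hG (p := 7) (by rw [h]; norm_num)
  obtain ⟨P⟩ := (inferInstance : Nonempty (Sylow 7 G))
  obtain ⟨hP, hn, -, -⟩ := seven_data h P
  obtain ⟨D, hDn, -⟩ := exists_setting hR P hP 17 (by rw [hn])
  have hC := card_centralizer_seven h D.S.order_x
  have hV : D.S.V = ⊥ := by
    have h1 := card_centralizer_x D.S
    rw [hC] at h1
    exact Subgroup.card_eq_one.mp (by omega)
  obtain ⟨K⟩ := exists_frame D hV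
  have hcard := D.card_group
  rw [h, hV, Subgroup.card_bot, hDn] at hcard
  have he : D.e = 3 := by omega
  have ht : D.t = 2 := by have := D.het; rw [he] at this; omega
  obtain ⟨h1A, hδ1⟩ := D.trivial_mem_A (by omega)
  set one := Chars.trivialIrr G with hone
  obtain ⟨a, b, hab, hAe⟩ := card_eq_two.mp (show (D.A.erase one).card = 2 by
    rw [card_erase_of_mem h1A, D.cardA, he])
  obtain ⟨θ₁, θ₂, hθne, hB⟩ := card_eq_two.mp (D.cardB.trans ht)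
  have hθ₁ : θ₁ ∈ D.B := hB ▸ mem_insert_self _ _
  have hθ₂ : θ₂ ∈ D.B := hB ▸ mem_insert_of_mem (mem_singleton_self _)
  have hdvd : D.e * (1 + D.n * 7) = 360 := by rw [he, hDn]
  have hlt : ∀ χ : IrrCharacter G, χ ≠ one → degOf χ < 51 := by
    intro χ hne
    have hsq := sq_degOf_lt hne
    rw [h] at hsq
    by_contra hcon
    have := Nat.mul_le_mul (not_lt.mp hcon) (not_lt.mp hcon)
    omega
  have hθne1 : ∀ θ ∈ D.B, θ ≠ one := fun θ hθ hh => disjoint_left.mp D.disj h1A (hh ▸ hθ)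
  have hA : ∀ χ ∈ D.A.erase one, χ ≠ one ∧ χ ∈ D.A ∧ degOf χ ∈ [6, 8, 15, 20, 36] ∧
      D.δ χ = sgn (degOf χ) := by
    intro χ hχ
    obtain ⟨hne, hχA⟩ := mem_erase.mp hχ
    have hc := Int.modEq_iff_dvd.mp (D.congrA χ hχA)
    refine ⟨hne, hχA, mem_degA _ (List.mem_range.mpr (hlt χ hne)) (hdvd ▸ D.dvdA χ hχA)
      (one_lt_degOf hR hne) ?_, ?_⟩
    · rcases D.δ_unit χ hχA with hh | hh <;> rw [hh] at hc <;> omega
    · rcases D.δ_unit χ hχA with hh | hh <;> rw [hh] at hc ⊢ <;> unfold sgn <;> split_ifs <;> omega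
  have hgmem : degOf θ₁ ∈ [3, 4, 10, 18, 24, 45] := by
    have hc := Int.modEq_iff_dvd.mp (D.congrB θ₁ hθ₁)
    rw [he] at hc
    refine mem_degB _ (List.mem_range.mpr (hlt _ (hθne1 _ hθ₁))) (hdvd ▸ D.dvdB θ₁ hθ₁) ?_
    rcases D.ε_unit with hh | hh <;> rw [hh] at hc <;> omega
  have key : ∀ χ₁ χ₂ : IrrCharacter G, D.A.erase one = {χ₁, χ₂} → χ₁ ≠ χ₂ →
      degOf χ₁ ≤ degOf χ₂ →
      ∃ (f₁ f₂ g : ℕ) (ε : ℤ), Seven D.S.x χ₁ χ₂ θ₁ θ₂ f₁ f₂ g ε ∧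
        (f₁, f₂, g, ε) ∈ [(6, 8, 3, (1 : ℤ)), (6, 15, 10, 1), (8, 15, 24, 1), (15, 20, 4, -1)] := by
    intro χ₁ χ₂ hAeq hne12 hle
    obtain ⟨n1, hm1, hd1, hs1⟩ := hA χ₁ (by rw [hAeq]; exact mem_insert_self _ _)
    obtain ⟨n2, hm2, hd2, hs2⟩ := hA χ₂ (by rw [hAeq]; exact mem_insert_of_mem (mem_singleton_self _))
    have hAall : D.A = {one, χ₁, χ₂} := by rw [← insert_erase h1A, hAeq]
    have hsumA : ∀ f : IrrCharacter G → ℂ, ∑ χ ∈ D.A, f χ = f one + (f χ₁ + f χ₂) := by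
      intro f
      rw [← add_sum_erase _ _ h1A, hAeq, sum_pair hne12]
    have hrelA : ∀ θ ∈ D.B, ∀ w : G, ¬ 7 ∣ orderOf w → (D.ε : ℂ) * (θ : G → ℂ) w =
        1 + (sgn (degOf χ₁) : ℂ) * (χ₁ : G → ℂ) w + (sgn (degOf χ₂) : ℂ) * (χ₂ : G → ℂ) w := by
      intro θ hθ w hw
      rw [D.rel θ hθ w hw, hsumA, hδ1, hs1, hs2, hone, Chars.trivialIrr_apply]
      push_cast
      ring
    have hdisj : ∀ {χ θ : IrrCharacter G}, χ ∈ D.A → θ ∈ D.B → χ ≠ θ :=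
      fun hχ hθ hh => disjoint_left.mp D.disj hχ (hh ▸ hθ)
    refine ⟨_, _, _, D.ε, ⟨D.S.order_x, rfl, rfl, rfl, D.degB_eq hθ₂ hθ₁, n1, n2, hθne1 _ hθ₁,
      hθne1 _ hθ₂, hne12, hdisj hm1 hθ₁, hdisj hm1 hθ₂, hdisj hm2 hθ₁, hdisj hm2 hθ₂, hθne, ?_, ?_, ?_,
      ?_, hrelA θ₁ hθ₁, ?_, fun w hw => orderOf_eq_of_dvd K hw⟩, ?_⟩
    · rw [← hs1, ← D.applyA χ₁ hm1 1 one_ne_zero, xp_one]
    · rw [← hs2, ← D.applyA χ₂ hm2 1 one_ne_zero, xp_one]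
    · have h1 := sum_apply_B K hθ₁
      rw [hB, sum_pair hθne] at h1
      exact h1
    · intro χ a0 a1 a2 a3 a4 j hj
      rw [← K.profile_eq χ j]
      refine D.profile_rest χ ?_ ?_ j hj
      · simp only [hAall, mem_insert, mem_singleton, not_or]; exact ⟨a0, a1, a2⟩
      · simp [hB, a3, a4]
    · intro w hw
      exact mul_left_cancel₀ (by rcases D.ε_unit with hh | hh <;> simp [hh] : (D.ε : ℂ) ≠ 0)
        ((hrelA θ₂ hθ₂ w hw).trans (hrelA θ₁ hθ₁ w hw).symm)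
    · have hrel := degree_relation D hθ₁
      rw [← add_sum_erase _ _ h1A, hAeq, sum_pair hne12, hδ1, hs1, hs2, degOf_trivial] at hrel
      have hsq : 1 + degOf χ₁ * degOf χ₁ + degOf χ₂ * degOf χ₂ + 2 * (degOf θ₁ * degOf θ₁) ≤ 2520 := by
        have h1 : ∑ ψ : IrrCharacter G, degOf ψ * degOf ψ = Nat.card G := by
          apply Nat.cast_injective (R := ℂ)
          push_cast
          rw [← Chars.sum_degree_sq]
          exact sum_congr rfl fun ψ _ => by rw [apply_one_eq_degOf, sq]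
        have h2 := sum_le_sum_of_subset (f := fun ψ : IrrCharacter G => degOf ψ * degOf ψ)
          (subset_univ (D.A ∪ D.B))
        rw [h1, h, sum_union D.disj, ← add_sum_erase _ _ h1A, hAeq, sum_pair hne12, hB, sum_pair hθne,
          hone, degOf_trivial, D.degB_eq hθ₂ hθ₁] at h2
        omega
      exact table _ hd1 _ hd2 _ hgmem D.ε (by rcases D.ε_unit with hh | hh <;> simp [hh])
        (by push_cast at hrel ⊢; linarith) hsq hle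
  rcases le_total (degOf a) (degOf b) with hle | hle
  · obtain ⟨f₁, f₂, g, ε, hS⟩ := key a b hAe hab hle
    exact ⟨D.S.x, a, b, θ₁, θ₂, f₁, f₂, g, ε, hS⟩
  · obtain ⟨f₁, f₂, g, ε, hS⟩ := key b a (by rw [hAe, pair_comm]) hab.symm hle
    exact ⟨D.S.x, b, a, θ₁, θ₂, f₁, f₂, g, ε, hS⟩

namespace Seven

variable {x : G} {χ₁ χ₂ θ₁ θ₂ : IrrCharacter G} {f₁ f₂ g : ℕ} {ε : ℤ}
  (B : Seven x χ₁ χ₂ θ₁ θ₂ f₁ f₂ g ε)

include B

theorem sum_five (f : IrrCharacter G → ℂ)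
    (hf : ∀ χ, χ ∉ ({Chars.trivialIrr G, χ₁, χ₂, θ₁, θ₂} : Finset (IrrCharacter G)) → f χ = 0) :
    ∑ χ : IrrCharacter G, f χ = f (Chars.trivialIrr G) + f χ₁ + f χ₂ + f θ₁ + f θ₂ := by
  classical
  rw [← sum_subset (subset_univ _) (fun χ _ hχ => hf χ hχ),
    sum_insert (by simp [B.ne₁.symm, B.ne₂.symm, B.ne₃.symm, B.ne₄.symm]),
    sum_insert (by simp [B.ne₁₂, B.ne₁₃, B.ne₁₄]), sum_insert (by simp [B.ne₂₃, B.ne₂₄]),
    sum_pair B.ne₃₄]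
  ring

theorem dvd_degOf {χ : IrrCharacter G} (h0 : χ ≠ Chars.trivialIrr G) (h1 : χ ≠ χ₁) (h2 : χ ≠ χ₂)
    (h3 : χ ≠ θ₁) (h4 : χ ≠ θ₂) : 7 ∣ degOf χ := by
  haveI : Fact (Nat.Prime 7) := ⟨by norm_num⟩
  exact dvd_degOf_of_vanish B.order_x (B.rest χ h0 h1 h2 h3 h4)

theorem involution [IsSimpleGroup G] (h : Nat.card G = 2520) (hε : ε = 1 ∨ ε = -1) {t : G}
    (ht : orderOf t = 2) :
    ∃ (a₁ a₂ : ℤ) (C idx : ℕ), C = Nat.card (centralizer ({t} : Set G)) ∧ C ∣ 360 ∧ 2 ∣ C ∧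
      idx * C = 2520 ∧
      (4 : ℤ) ∣ (f₁ : ℤ) - a₁ ∧ (4 : ℤ) ∣ (f₂ : ℤ) - a₂ ∧
      (4 : ℤ) ∣ (g : ℤ) - ε * (1 + sgn f₁ * a₁ + sgn f₂ * a₂) ∧
      (f₁ : ℤ) ∣ idx * a₁ ∧ (f₂ : ℤ) ∣ idx * a₂ ∧
      (g : ℤ) ∣ idx * (ε * (1 + sgn f₁ * a₁ + sgn f₂ * a₂)) ∧
      |a₁| ≤ f₁ ∧ |a₂| ≤ f₂ ∧ |ε * (1 + sgn f₁ * a₁ + sgn f₂ * a₂)| ≤ g ∧
      1 + a₁ * a₁ + a₂ * a₂ + 2 * ((1 + sgn f₁ * a₁ + sgn f₂ * a₂) * (1 + sgn f₁ * a₁ + sgn f₂ * a₂))
        ≤ (C : ℤ) ∧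
      ∃ k : ℕ, 360 * ((f₁ : ℤ) * f₂ * g + sgn f₁ * (a₁ * a₁) * f₂ * g + sgn f₂ * (a₂ * a₂) * f₁ * g -
        ε * ((1 + sgn f₁ * a₁ + sgn f₂ * a₂) * (1 + sgn f₁ * a₁ + sgn f₂ * a₂)) * f₁ * f₂) =
          ((C : ℤ) * C * k) * (f₁ * f₂ * g) := by
  classical
  haveI : Fact (Nat.Prime 7) := ⟨by norm_num⟩
  have hG := not_comm h
  obtain ⟨a₁, ha₁⟩ := PrimeChar.exists_int_apply_involution χ₁ ht
  obtain ⟨a₂, ha₂⟩ := PrimeChar.exists_int_apply_involution χ₂ ht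
  obtain ⟨b, hb⟩ := PrimeChar.exists_int_apply_involution θ₁ ht
  have hreg : ¬ 7 ∣ orderOf t := by rw [ht]; norm_num
  have hbeq : b = ε * (1 + sgn f₁ * a₁ + sgn f₂ * a₂) := by
    have h1 := B.rel₁ t hreg
    rw [hb, ha₁, ha₂] at h1
    have h2 : ε * b = 1 + sgn f₁ * a₁ + sgn f₂ * a₂ := by
      apply Int.cast_injective (α := ℂ)
      push_cast
      linear_combination h1
    rcases hε with rfl | rfl <;> omega
  have hb2 : (θ₂ : G → ℂ) t = b := (B.rel₂ t hreg).trans hb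
  set C := Nat.card (centralizer ({t} : Set G)) with hCdef
  set idx := (centralizer ({t} : Set G)).index with hidx
  have hmul : idx * C = 2520 := by rw [hidx, hCdef, mul_comm, Subgroup.card_mul_index, h]
  have h7 : ¬ 7 ∣ C := by
    intro hd
    obtain ⟨y, hy⟩ := exists_prime_orderOf_dvd_card' 7 hd
    rw [← Subgroup.orderOf_coe] at hy
    have h1 : t ∈ centralizer ({(y : G)} : Set G) := by
      rw [mem_centralizer_singleton_iff]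
      exact (mem_centralizer_singleton_iff.mp y.2).symm
    have h2 := Subgroup.orderOf_dvd_natCard _ h1
    rw [ht, card_centralizer_seven h hy] at h2
    norm_num at h2
  have hC360 : C ∣ 360 := by
    have h1 : C ∣ 7 * 360 := Dvd.intro_left idx (by rw [hmul])
    exact (((by norm_num : Nat.Prime 7).coprime_iff_not_dvd.mpr h7).symm).dvd_of_dvd_mul_left h1
  have h2C : 2 ∣ C := ht ▸ Subgroup.orderOf_dvd_natCard _ (mem_centralizer_singleton_iff.mpr rfl)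
  have htt : t * t = 1 := by rw [← sq, ← ht, pow_orderOf_eq_one]
  have habs : ∀ {χ : IrrCharacter G} {a : ℤ}, (χ : G → ℂ) t = a → |a| ≤ (degOf χ : ℤ) := by
    intro χ a ha
    have h1 := Chars.norm_char_le_degree (Chars.irr_isCharacter χ) t
    rw [ha, apply_one_eq_degOf, Complex.natCast_re, Complex.norm_intCast] at h1
    exact_mod_cast h1
  have d1 := dvd_sub_apply_involution hG χ₁ htt ha₁
  have d2 := dvd_sub_apply_involution hG χ₂ htt ha₂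
  have d3 := dvd_sub_apply_involution hG θ₁ htt hb
  have w1 := degOf_dvd_index_mul ha₁
  have w2 := degOf_dvd_index_mul ha₂
  have w3 := degOf_dvd_index_mul hb
  have b1 := habs ha₁
  have b2 := habs ha₂
  have b3 := habs hb
  rw [B.deg₁] at d1 w1 b1
  rw [B.deg₂] at d2 w2 b2
  rw [B.deg₃, hbeq] at d3 w3 b3
  refine ⟨a₁, a₂, C, idx, rfl, hC360, h2C, hmul, d1, d2, d3, w1, w2, w3, b1, b2, b3, ?_, ?_⟩
  · choose v hv using fun χ : IrrCharacter G => PrimeChar.exists_int_apply_involution χ ht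
    have hcol : ∑ χ : IrrCharacter G, v χ * v χ = (C : ℤ) := by
      apply Int.cast_injective (α := ℂ)
      push_cast
      rw [hCdef, ← Chars.column_orthogonality_of_isConj (IsConj.refl t)]
      exact sum_congr rfl fun χ _ => by rw [hv, map_intCast]
    have hsub := sum_le_sum_of_subset_of_nonneg
      (subset_univ ({Chars.trivialIrr G, χ₁, χ₂, θ₁, θ₂} : Finset (IrrCharacter G)))
      (f := fun χ => v χ * v χ) (fun χ _ _ => mul_self_nonneg _)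
    rw [hcol, sum_insert (by simp [B.ne₁.symm, B.ne₂.symm, B.ne₃.symm, B.ne₄.symm]),
      sum_insert (by simp [B.ne₁₂, B.ne₁₃, B.ne₁₄]), sum_insert (by simp [B.ne₂₃, B.ne₂₄]),
      sum_pair B.ne₃₄] at hsub
    have hv1 : v (Chars.trivialIrr G) = 1 := by
      have := hv (Chars.trivialIrr G)
      rw [Chars.trivialIrr_apply] at this
      exact_mod_cast this.symm
    have hva : v χ₁ = a₁ := by have := hv χ₁; rw [ha₁] at this; exact_mod_cast this.symm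
    have hvb : v χ₂ = a₂ := by have := hv χ₂; rw [ha₂] at this; exact_mod_cast this.symm
    have hvc : v θ₁ = b := by have := hv θ₁; rw [hb] at this; exact_mod_cast this.symm
    have hvd : v θ₂ = b := by have := hv θ₂; rw [hb2] at this; exact_mod_cast this.symm
    rw [hv1, hva, hvb, hvc, hvd, hbeq] at hsub
    rcases hε with rfl | rfl <;> nlinarith
  · obtain ⟨k, hk⟩ := pairs_dvd B.order_x (card_centralizer_seven h B.order_x) htt h7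
    refine ⟨k, ?_⟩
    rw [B.sum_five _ (fun χ hχ => by
      simp only [mem_insert, mem_singleton, not_or] at hχ
      obtain ⟨a0, a1, a2, a3, a4⟩ := hχ
      rw [← xp_one (p := 7) (x := x), B.rest χ a0 a1 a2 a3 a4 1 one_ne_zero, map_zero, mul_zero, zero_div]),
      h, ← hCdef] at hk
    simp only [Chars.trivialIrr_apply, ha₁, ha₂, hb, hb2, B.val₁, B.val₂, apply_one_eq_degOf, B.deg₁,
      B.deg₂, B.deg₃, B.deg₄, map_one, map_intCast] at hk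
    have hsum : conj ((θ₁ : G → ℂ) x) + conj ((θ₂ : G → ℂ) x) = -(ε : ℂ) := by
      rw [← map_add, B.sumθ, map_neg, map_intCast]
    have hf : ∀ {χ : IrrCharacter G} {f : ℕ}, degOf χ = f → (f : ℂ) ≠ 0 := fun hh =>
      Nat.cast_ne_zero.mpr (hh ▸ (degOf_pos _).ne')
    have n1 := hf B.deg₁
    have n2 := hf B.deg₂
    have n3 := hf B.deg₃
    push_cast at hk
    field_simp at hk
    have h3 : ((360 * ((f₁ : ℤ) * f₂ * g + sgn f₁ * (a₁ * a₁) * f₂ * g + sgn f₂ * (a₂ * a₂) * f₁ * g -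
        ε * (b * b) * f₁ * f₂) : ℤ) : ℂ) = ((((C : ℤ) * C * k) * (f₁ * f₂ * g) : ℤ) : ℂ) := by
      push_cast
      refine mul_left_cancel₀ (show (7 : ℂ) ≠ 0 by norm_num) ?_
      linear_combination hk - 2520 * (b : ℂ) * (b : ℂ) * (f₁ : ℂ) * (f₂ : ℂ) * hsum
    have h4 := Int.cast_injective h3
    rw [hbeq] at h4
    rcases hε with rfl | rfl <;> linear_combination h4

end Seven

end Cfsg.Agent.Lib.SmallGroups.Order2520
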