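/-
In a simple group of order 2520 every involution has a centralizer of order 24.
-/
import Mathlib
import Cfsg.Agent.Lib.SmallGroups.Order2520.Block
import Cfsg.Agent.Lib.Chars.SmallDegrees
import Cfsg.Agent.Lib.Chars.PowerPerm
import Cfsg.Agent.Lib.Chars.Indicator

set_option autoImplicit false
set_option linter.unusedSectionVars false
set_option linter.style.haveILetI false

namespace Cfsg.Agent.Lib.SmallGroups.Order2520

open scoped ComplexConjugate
open Finset Subgroup Cfsg Cfsg.Agent.Lib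
open Cfsg.Agent.Lib.DefectOne Cfsg.Agent.Lib.BrauerReynolds Cfsg.Agent.Lib.BrauerTuan
open Cfsg.Agent.Lib.SmallGroups.PrimeChar (xp xp_one)

universe u

variable {G : Type u} [Group G] [Fintype G]

/-- The conditions at an involution. -/
def cond (f₁ f₂ g : ℕ) (ε : ℤ) (C : ℕ) (a₁ a₂ : ℤ) : Bool :=
  let idx : ℤ := ((2520 / C : ℕ) : ℤ)
  let r := 1 + sgn f₁ * a₁ + sgn f₂ * a₂
  let v := 360 * ((f₁ : ℤ) * f₂ * g + sgn f₁ * (a₁ * a₁) * f₂ * g + sgn f₂ * (a₂ * a₂) * f₁ * g -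
    ε * (r * r) * f₁ * f₂)
  decide ((4 : ℤ) ∣ (f₁ : ℤ) - a₁) && decide ((4 : ℤ) ∣ (f₂ : ℤ) - a₂) &&
    decide ((4 : ℤ) ∣ (g : ℤ) - ε * r) &&
    decide ((f₁ : ℤ) ∣ idx * a₁) && decide ((f₂ : ℤ) ∣ idx * a₂) && decide ((g : ℤ) ∣ idx * (ε * r)) &&
    decide (1 + a₁ * a₁ + a₂ * a₂ + 2 * (r * r) ≤ (C : ℤ)) &&
    decide (0 ≤ v) && decide ((C : ℤ) * C * (f₁ * f₂ * g) ∣ v) && decide (|ε * r| ≤ g)

/-- The admissible centralizer orders. -/
def orders : List ℕ := (List.range 361).filter fun C => 360 % C == 0 && C % 2 == 0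

theorem table_six : ∀ C ∈ orders, ∀ i ∈ List.range 13, ∀ j ∈ List.range 31,
    cond 6 15 10 1 C ((i : ℤ) - 6) ((j : ℤ) - 15) = true → C = 24 := by
  decide +kernel

theorem table_eight : ∀ C ∈ orders, ∀ i ∈ List.range 17, ∀ j ∈ List.range 31,
    cond 8 15 24 1 C ((i : ℤ) - 8) ((j : ℤ) - 15) = true → ¬ 5 ∣ C := by
  decide +kernel

variable {x : G} {χ₁ χ₂ θ₁ θ₂ : IrrCharacter G} {f₁ f₂ g : ℕ} {ε : ℤ}

theorem Seven.exists_cond [IsSimpleGroup G] (B : Seven x χ₁ χ₂ θ₁ θ₂ f₁ f₂ g ε)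
    (h : Nat.card G = 2520) (hε : ε = 1 ∨ ε = -1) {t : G} (ht : orderOf t = 2) :
    Nat.card (centralizer ({t} : Set G)) ∈ orders ∧ ∃ i j : ℕ, i < 2 * f₁ + 1 ∧ j < 2 * f₂ + 1 ∧
      cond f₁ f₂ g ε (Nat.card (centralizer ({t} : Set G))) ((i : ℤ) - f₁) ((j : ℤ) - f₂) = true := by
  obtain ⟨a₁, a₂, C, idx, rfl, hC, h2, hidx, d1, d2, d3, w1, w2, w3, b1, b2, b3, hsq, k, hk⟩ :=
    B.involution h hε ht
  set C := Nat.card (centralizer ({t} : Set G)) with hCdef
  have hCpos : 0 < C := Nat.card_pos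
  refine ⟨List.mem_filter.mpr ⟨List.mem_range.mpr (Nat.lt_succ_of_le (Nat.le_of_dvd (by norm_num) hC)), by
    simp [Nat.mod_eq_zero_of_dvd hC, Nat.mod_eq_zero_of_dvd h2]⟩, ?_⟩
  have e1 := abs_le.mp b1
  have e2 := abs_le.mp b2
  refine ⟨(a₁ + f₁).toNat, (a₂ + f₂).toNat, by omega, by omega, ?_⟩
  rw [show (((a₁ + f₁).toNat : ℕ) : ℤ) - f₁ = a₁ by omega,
    show (((a₂ + f₂).toNat : ℕ) : ℤ) - f₂ = a₂ by omega]
  have hidx' : 2520 / C = idx := by rw [← hidx, Nat.mul_div_cancel _ hCpos]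
  simp only [cond, hidx', Bool.and_eq_true, decide_eq_true_eq]
  refine ⟨⟨⟨⟨⟨⟨⟨⟨⟨d1, d2⟩, d3⟩, w1⟩, w2⟩, w3⟩, hsq⟩, ?_⟩, ?_⟩, b3⟩
  · rw [hk]; positivity
  · rw [hk]; exact ⟨k, by ring⟩

theorem Seven.false_of_four [IsSimpleGroup G] (B : Seven x χ₁ χ₂ θ₁ θ₂ 15 20 4 (-1))
    : False := by
  classical
  obtain ⟨n, ρ, -, hρ⟩ := Chars.irr_exists_rep θ₁
  obtain ⟨σ, α, hσ, hα, hsum, hdiff⟩ := Chars.exists_sym_alt ρ
  rw [hρ] at hsum hdiff
  have hone := B.deg₃
  have h1 := hsum 1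
  have h2 := hdiff 1
  rw [apply_one_eq_degOf, hone] at h1
  rw [mul_one, apply_one_eq_degOf, hone] at h2
  have hσ1 : σ 1 = 10 := by
    push_cast at h1 h2
    linear_combination -(1 / 2 : ℂ) * h1 - (1 / 2 : ℂ) * h2
  choose m hm using fun χ : IrrCharacter G =>
    Chars.isCharacter_classInner_nat hσ (Chars.irr_isCharacter χ)
  obtain ⟨a, ha⟩ := Chars.isCharacter_classInner_nat hα (Chars.irr_isCharacter (Chars.trivialIrr G))
  have hle : m (Chars.trivialIrr G) ≤ 1 := by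
    have hab : (m (Chars.trivialIrr G) : ℂ) + a = if θ₁ = Chars.irrConj θ₁ then 1 else 0 := by
      rw [← hm, ← ha, ← Chars.classInner_add_left, ← Chars.classInner_irr]
      simp only [classInner, Chars.trivialIrr_apply, map_one, mul_one, Pi.add_apply,
        Chars.irrConj_apply, Complex.conj_conj, hsum]
    split at hab
    · have : m (Chars.trivialIrr G) + a = 1 := by exact_mod_cast hab
      omega
    · have : m (Chars.trivialIrr G) + a = 0 := by exact_mod_cast hab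
      omega
  have hdec : ∑ χ : IrrCharacter G, m χ * degOf χ = 10 := by
    have h3 := congrFun (Chars.isCharacter_eq_sum_classInner hσ) 1
    rw [hσ1, Finset.sum_apply] at h3
    simp only [Pi.smul_apply, smul_eq_mul, hm, apply_one_eq_degOf] at h3
    exact_mod_cast h3.symm
  set S : Finset (IrrCharacter G) := {Chars.trivialIrr G, χ₁, χ₂, θ₁, θ₂} with hS
  rw [← sum_sdiff (subset_univ S)] at hdec
  have h7 : 7 ∣ ∑ χ ∈ univ \ S, m χ * degOf χ := by
    refine Finset.dvd_sum fun χ hχ => Dvd.dvd.mul_left ?_ _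
    simp only [hS, mem_sdiff, mem_insert, mem_singleton, not_or] at hχ
    obtain ⟨-, a0, a1, a2, a3, a4⟩ := hχ
    exact B.dvd_degOf a0 a1 a2 a3 a4
  rw [hS, sum_insert (by simp [B.ne₁.symm, B.ne₂.symm, B.ne₃.symm, B.ne₄.symm]),
    sum_insert (by simp [B.ne₁₂, B.ne₁₃, B.ne₁₄]), sum_insert (by simp [B.ne₂₃, B.ne₂₄]),
    sum_pair B.ne₃₄, degOf_trivial, B.deg₁, B.deg₂, B.deg₃, B.deg₄] at hdec
  rw [hS] at h7
  obtain ⟨r, hr⟩ := h7
  rw [hr] at hdec
  obtain ⟨hr1, hb0, hc0⟩ : r ≤ 1 ∧ m χ₁ = 0 ∧ m χ₂ = 0 := ⟨by omega, by omega, by omega⟩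
  rw [hb0, hc0] at hdec
  interval_cases r <;> omega

theorem exponent_table : ∀ l ∈ List.range 25, l % 5 ≠ 0 → ∃ i ∈ List.range 20, l = 113 ^ i % 25 := by
  decide +kernel

theorem Seven.false_of_three [IsSimpleGroup G] (B : Seven x χ₁ χ₂ θ₁ θ₂ 6 8 3 1)
    (h : Nat.card G = 2520) : False := by
  classical
  haveI : Fact (Nat.Prime 7) := ⟨by norm_num⟩
  haveI : Fact (Nat.Prime 5) := ⟨by norm_num⟩
  have hG := not_comm h
  obtain ⟨π, hπ⟩ := Chars.exists_powPerm (G := G) (k := 113) (by rw [h]; norm_num)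
  have hpow : ∀ w : G, 7 ∣ orderOf w → w ^ 113 = w := fun w hw => by
    conv_rhs => rw [← pow_one w]
    rw [pow_eq_pow_iff_modEq, B.regular w hw]
    decide
  have hdeg : degOf (π θ₁) = 3 := by
    have h1 := hπ θ₁ 1
    rw [one_pow, apply_one_eq_degOf, apply_one_eq_degOf, B.deg₃] at h1
    exact_mod_cast h1
  have hx : ∀ j : ZMod 7, (π θ₁ : G → ℂ) (xp 7 x j) = (θ₁ : G → ℂ) (xp 7 x j) := by
    intro j
    by_cases hj : j = 0
    · subst hj
      rw [PrimeChar.xp_zero, hπ, one_pow]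
    · rw [hπ, hpow _ ?_]
      rw [xp, Nat.Coprime.orderOf_pow, B.order_x]
      rw [B.order_x, (Fact.out : Nat.Prime 7).coprime_iff_not_dvd]
      exact fun hd => absurd (Nat.le_of_dvd (Nat.pos_of_ne_zero ((ZMod.val_ne_zero j).mpr hj)) hd) (not_le.mpr j.val_lt)
  have hmem : π θ₁ = θ₁ ∨ π θ₁ = θ₂ := by
    have hd : ∀ {χ : IrrCharacter G} {f : ℕ}, degOf χ = f → f ≠ 3 → π θ₁ ≠ χ := fun hf hne he =>
      hne (by rw [← hf, ← he, hdeg])
    by_contra hcon
    rw [not_or] at hcon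
    have h7 : 7 ∣ degOf θ₁ := dvd_degOf_of_vanish B.order_x fun j hj => by
      rw [← hx j]
      exact B.rest _ (hd degOf_trivial (by norm_num)) (hd B.deg₁ (by norm_num)) (hd B.deg₂ (by norm_num))
        hcon.1 hcon.2 j hj
    rw [B.deg₃] at h7
    norm_num at h7
  have hrat : ∀ w : G, (θ₁ : G → ℂ) (w ^ 113) = (θ₁ : G → ℂ) w := by
    intro w
    by_cases hw : 7 ∣ orderOf w
    · rw [hpow w hw]
    · rw [← hπ]
      rcases hmem with hh | hh <;> rw [hh]
      exact B.rel₂ w hw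
  have hcd : charDegree (θ₁ : G → ℂ) = 3 := by
    rw [Codegree.charDegree_eq (apply_one_eq_degOf θ₁), B.deg₃]
  obtain ⟨y, hy⟩ := exists_prime_orderOf_dvd_card' (G := G) 5 (by rw [h]; norm_num)
  have hfacts := (Chars.rational_char_facts (p := 5) (k := 113) (fun l hl => by
      obtain ⟨i, -, hi⟩ := exponent_table (l % 25) (List.mem_range.mpr (Nat.mod_lt _ (by norm_num)))
        (fun h0 => by
          have : 5 ∣ l := by omega
          exact absurd (Nat.eq_one_of_dvd_coprimes hl this dvd_rfl) (by norm_num))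
      exact ⟨i, by rw [Nat.ModEq, show (5 : ℕ) ^ 2 = 25 by norm_num, hi]⟩)
    θ₁ (by rw [hcd]; norm_num) (fun w hw => faithful_of_ne_trivial B.ne₃ hw) hrat).1 y hy
  rw [hcd] at hfacts
  exact absurd hfacts.1 (by norm_num)

/-- The centralizer of an element of order five, once no involution centralizes one. -/
theorem centralizer_five [IsSimpleGroup G] (h : Nat.card G = 2520) [Fact (Nat.Prime 5)]
    (h5 : ∀ t : G, orderOf t = 2 → ¬ 5 ∣ Nat.card (centralizer ({t} : Set G))) (Q : Sylow 5 G) :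
    Nat.card (Q : Subgroup G) = 5 ∧ Nat.card (centralizer ((Q : Subgroup G) : Set G)) = 5 ∧
      Nat.card (normalizer ((Q : Subgroup G) : Set G)) = 20 := by
  haveI : Fact (Nat.Prime 2) := ⟨Nat.prime_two⟩
  haveI : Fact (Nat.Prime 7) := ⟨by norm_num⟩
  have hG := not_comm h
  obtain ⟨hQ, hN⟩ := normalizer_five_cases h Q
  obtain ⟨e, he, he1, h5C, hNc⟩ := exists_card_normalizer_eq_of_simple hG Q hQ
  obtain ⟨⟨q, hqQ⟩, hq⟩ := exists_prime_orderOf_dvd_card' (G := (Q : Subgroup G)) 5 (dvd_of_eq hQ.symm)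
  rw [Subgroup.orderOf_mk] at hq
  have hcomm : ∀ w ∈ centralizer ((Q : Subgroup G) : Set G), q ∈ centralizer ({w} : Set G) := fun w hw => by
    rw [mem_centralizer_singleton_iff]
    exact mem_centralizer_iff.mp hw q hqQ
  have hno2 : ¬ 2 ∣ Nat.card (centralizer ((Q : Subgroup G) : Set G)) := by
    intro hd
    obtain ⟨⟨w, hw⟩, hw2⟩ := exists_prime_orderOf_dvd_card' 2 hd
    rw [Subgroup.orderOf_mk] at hw2
    exact h5 w hw2 (hq ▸ Subgroup.orderOf_dvd_natCard _ (hcomm w hw))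
  have hno7 : ¬ 7 ∣ Nat.card (centralizer ((Q : Subgroup G) : Set G)) := by
    intro hd
    obtain ⟨⟨w, hw⟩, hw7⟩ := exists_prime_orderOf_dvd_card' 7 hd
    rw [Subgroup.orderOf_mk] at hw7
    have h1 := Subgroup.orderOf_dvd_natCard _ (hcomm w hw)
    rw [hq, card_centralizer_seven h hw7] at h1
    norm_num at h1
  have he4 := Nat.le_of_dvd (by norm_num) he
  simp only [Finset.mem_insert, Finset.mem_singleton] at hN
  refine ⟨hQ, ?_⟩
  interval_cases e <;> rcases hN with hN | hN | hN | hN <;> omega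

theorem Seven.false_of_eight [IsSimpleGroup G] (B : Seven x χ₁ χ₂ θ₁ θ₂ 8 15 24 1)
    (h : Nat.card G = 2520) : False := by
  classical
  haveI : Fact (Nat.Prime 5) := ⟨by norm_num⟩
  have hG := not_comm h
  have h5 : ∀ t : G, orderOf t = 2 → ¬ 5 ∣ Nat.card (centralizer ({t} : Set G)) := by
    intro t ht
    obtain ⟨hC, i, j, hi, hj, hc⟩ := B.exists_cond h (Or.inl rfl) ht
    exact table_eight _ hC i (List.mem_range.mpr hi) j (List.mem_range.mpr hj) hc
  obtain ⟨Q⟩ := (inferInstance : Nonempty (Sylow 5 G))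
  obtain ⟨hQ, hCQ, hNQ⟩ := centralizer_five h h5 Q
  have hmul := card_normalizer_sylow_mul Q
  rw [h, hNQ] at hmul
  obtain ⟨D, hDn, hxQ⟩ := exists_setting (reduced_of_simple hG (p := 5) (by rw [h]; norm_num)) Q hQ 25 (by omega)
  have hx1 : D.S.x ≠ 1 := fun hh => by
    have := D.S.order_x
    rw [hh, orderOf_one] at this
    norm_num at this
  have hV : D.S.V = ⊥ := by
    have h1 := card_centralizer_x D.S
    rw [centralizer_eq_of_prime hQ hxQ hx1, hCQ] at h1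
    exact Subgroup.card_eq_one.mp (by omega)
  obtain ⟨K⟩ := exists_frame D hV
  have hcard := D.card_group
  rw [h, hV, Subgroup.card_bot, hDn] at hcard
  have he : D.e = 4 := by omega
  by_cases hA : χ₁ ∈ D.A
  · have hc := Int.modEq_iff_dvd.mp (D.congrA χ₁ hA)
    rw [B.deg₁] at hc
    rcases D.δ_unit χ₁ hA with hh | hh <;> rw [hh] at hc <;> omega
  by_cases hB : χ₁ ∈ D.B
  · have hc := Int.modEq_iff_dvd.mp (D.congrB χ₁ hB)
    rw [B.deg₁, he] at hc
    rcases D.ε_unit with hh | hh <;> rw [hh] at hc <;> omega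
  have h8 := dvd_degOf_of_vanish D.S.order_x (χ := χ₁) fun j hj => by
    rw [← K.profile_eq χ₁ j]
    exact D.profile_rest χ₁ hA hB j hj
  rw [B.deg₁] at h8
  norm_num at h8

/-- Every involution has a centralizer of order 24. -/
theorem card_centralizer_involution [IsSimpleGroup G] (h : Nat.card G = 2520) {t : G}
    (ht : orderOf t = 2) : Nat.card (centralizer ({t} : Set G)) = 24 := by
  obtain ⟨x, χ₁, χ₂, θ₁, θ₂, f₁, f₂, g, ε, B, hmem⟩ := exists_seven h
  simp only [List.mem_cons, List.not_mem_nil, or_false, Prod.mk.injEq] at hmem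
  rcases hmem with ⟨rfl, rfl, rfl, rfl⟩ | ⟨rfl, rfl, rfl, rfl⟩ | ⟨rfl, rfl, rfl, rfl⟩ | ⟨rfl, rfl, rfl, rfl⟩
  · exact (B.false_of_three h).elim
  · obtain ⟨hC, i, j, hi, hj, hc⟩ := B.exists_cond h (Or.inl rfl) ht
    exact table_six _ hC i (List.mem_range.mpr hi) j (List.mem_range.mpr hj) hc
  · exact (B.false_of_eight h).elim
  · exact B.false_of_four.elim

end Cfsg.Agent.Lib.SmallGroups.Order2520
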