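/-
The Sylow 3-subgroups of a simple group of order 2520 and the centralizers of the elements of
order three which centralize an involution.
-/
import Mathlib
import Cfsg.Agent.Lib.SmallGroups.Order2520.Characters

set_option autoImplicit false
set_option linter.unusedSectionVars false
set_option linter.style.haveILetI false

namespace Cfsg.Agent.Lib.SmallGroups.Order2520

open Subgroup

universe u

variable {G : Type u} [Group G] [Fintype G] [IsSimpleGroup G]

theorem eq_one_of_commute (h : Nat.card G = 2520) {q w : G} (hq : orderOf q = 5 ∨ orderOf q = 7)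
    (hw : q * w = w * q) {k : ℕ} (hk : orderOf w ∣ 3 ^ k) : w = 1 := by
  have hwC : w ∈ centralizer ({q} : Set G) := mem_centralizer_singleton_iff.mpr hw.symm
  have hd := orderOf_dvd_natCard _ hwC
  rw [← orderOf_eq_one_iff]
  rcases hq with hq | hq
  · haveI : Fact (Nat.Prime 5) := ⟨by norm_num⟩
    have hfac : (Nat.card G).factorization 5 = 1 := by
      rw [h, show (2520 : ℕ) = 5 ^ 1 * 504 by norm_num,
        Nat.factorization_mul (by norm_num) (by norm_num), (Fact.out : Nat.Prime 5).factorization_pow]
      simp [Nat.factorization_eq_zero_of_not_dvd (n := 504) (p := 5) (by norm_num)]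
    let Q : Sylow 5 G := Sylow.ofCard (zpowers q) (by rw [Nat.card_zpowers, hq, hfac, pow_one])
    obtain ⟨hQ, hCQ, -⟩ := centralizer_five h
      (fun t ht => by rw [card_centralizer_involution h ht]; norm_num) Q
    rw [centralizer_eq_of_prime hQ (mem_zpowers q)
      (fun hh => by rw [hh, orderOf_one] at hq; norm_num at hq), hCQ] at hd
    exact Nat.eq_one_of_dvd_coprimes ((show Nat.Coprime 3 5 by norm_num).pow_left k) hk hd
  · rw [card_centralizer_seven h hq] at hd
    exact Nat.eq_one_of_dvd_coprimes ((show Nat.Coprime 3 7 by norm_num).pow_left k) hk hd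

theorem not_nine_dvd (h : Nat.card G = 2520) {v : G} (hv : orderOf v = 2) {H : Subgroup G}
    (hH : H ≤ centralizer ({v} : Set G)) : ¬ 9 ∣ Nat.card H := fun hd => by
  have := hd.trans (card_dvd_of_le hH)
  rw [card_centralizer_involution h hv] at this
  norm_num at this

theorem sylow_three (h : Nat.card G = 2520) [Fact (Nat.Prime 3)]
    (h7 : ∀ H : Subgroup G, H.index ≠ 7) (P : Sylow 3 G) :
    Nat.card (P : Subgroup G) = 9 ∧
      Nat.card (normalizer ((P : Subgroup G) : Set G)) = 36 ∧
      centralizer ((P : Subgroup G) : Set G) = P ∧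
      (∀ y ∈ (P : Subgroup G), y ^ 3 = 1) := by
  classical
  have hG := not_comm h
  have hP : Nat.card (P : Subgroup G) = 9 :=
    (card_sylow_eq P (k := 2) (m := 280) (by rw [h]; norm_num) (by norm_num)).trans (by norm_num)
  haveI hcomm : IsMulCommutative (P : Subgroup G) :=
    ⟨⟨(IsPGroup.isMulCommutative_of_card_eq_prime_sq (p := 3) (by rw [hP]; norm_num)).is_comm.comm⟩⟩
  set N := normalizer ((P : Subgroup G) : Set G) with hNdef
  have hmul := card_normalizer_sylow_mul P
  rw [h, ← hNdef] at hmul
  -- no element of order five or seven normalizes `P`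
  have hno : ∀ q : ℕ, q = 5 ∨ q = 7 → ¬ q ∣ Nat.card N := by
    intro q hq hd
    haveI : Fact q.Prime := ⟨by rcases hq with rfl | rfl <;> norm_num⟩
    obtain ⟨⟨g, hgN⟩, hg⟩ := exists_prime_orderOf_dvd_card' q hd
    rw [Subgroup.orderOf_mk] at hg
    letI act : MulAction (zpowers g) (P : Subgroup G) :=
      { smul := fun c y => ⟨(c : G) * y * (c : G)⁻¹,
          (mem_normalizer_iff.mp (zpowers_le.mpr hgN c.2) _).mp y.2⟩
        one_smul := fun y => Subtype.ext (by show (1 : G) * y * (1 : G)⁻¹ = y; group)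
        mul_smul := fun a b y => Subtype.ext (by
          show ((a : G) * b) * y * ((a : G) * b)⁻¹ = (a : G) * ((b : G) * y * (b : G)⁻¹) * (a : G)⁻¹
          group) }
    have hmod := (IsPGroup.of_card (p := q) (n := 1) (G := zpowers g)
      (by rw [Nat.card_zpowers, hg, pow_one])).card_modEq_card_fixedPoints (P : Subgroup G)
    have hne : Nat.card (MulAction.fixedPoints (zpowers g) (P : Subgroup G)) ≠ 1 := by
      intro h1
      rw [hP, h1] at hmod
      rcases hq with rfl | rfl <;> simp [Nat.ModEq] at hmod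
    have hone : (1 : (P : Subgroup G)) ∈ MulAction.fixedPoints (zpowers g) (P : Subgroup G) :=
      fun c => Subtype.ext (by show (c : G) * 1 * (c : G)⁻¹ = 1; group)
    haveI : Nonempty (MulAction.fixedPoints (zpowers g) (P : Subgroup G)) := ⟨⟨1, hone⟩⟩
    haveI : Nontrivial (MulAction.fixedPoints (zpowers g) (P : Subgroup G)) :=
      Finite.one_lt_card_iff_nontrivial.mp (by
        have := Nat.card_pos (α := MulAction.fixedPoints (zpowers g) (P : Subgroup G))
        omega)
    obtain ⟨⟨y, hy⟩, hy1⟩ := exists_ne (⟨1, hone⟩ : MulAction.fixedPoints (zpowers g) (P : Subgroup G))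
    refine hy1 (Subtype.ext (Subtype.ext ?_))
    have h1 : g * (y : G) * g⁻¹ = (y : G) := congrArg Subtype.val (hy ⟨g, mem_zpowers g⟩)
    refine eq_one_of_commute h (hg ▸ hq) (mul_inv_eq_iff_eq_mul.mp h1) (k := 2) ?_
    rw [show (3 : ℕ) ^ 2 = 9 by norm_num, ← hP]
    exact orderOf_dvd_natCard _ y.2
  have hn := card_sylow_mem hG (p := 3) (k := 2) (m := 280) (by rw [h]; norm_num) (by norm_num) (by norm_num)
  rw [show (Nat.divisors 280).filter (fun d => d % 3 = 1 ∧ d ≠ 1) = {4, 7, 10, 28, 40, 70, 280} from by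
    decide +kernel] at hn
  have h5' := hno 5 (Or.inl rfl)
  have h7' := hno 7 (Or.inr rfl)
  have hne7 : Nat.card (Sylow 3 G) ≠ 7 := by
    rw [P.card_eq_index_normalizer]; exact h7 N
  have hNP : Nat.card N ≠ 9 := fun h9 => normalizer_ne_self_of_isMulCommutative hG
    (p := 3) (by rw [h]; norm_num) P
    (Subgroup.eq_of_le_of_card_ge le_normalizer (by rw [← hNdef, h9, hP])).symm
  have hN : Nat.card N = 36 := by
    simp only [Finset.mem_insert, Finset.mem_singleton] at hn
    rcases hn with hn | hn | hn | hn | hn | hn | hn <;> rw [hn] at hmul <;> omega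
  have hPC : (P : Subgroup G) ≤ centralizer ((P : Subgroup G) : Set G) :=
    Subgroup.le_centralizer (H := (P : Subgroup G))
  have hCP : centralizer ((P : Subgroup G) : Set G) = P := by
    have hd : Nat.card (centralizer ((P : Subgroup G) : Set G)) ∣ 36 :=
      hN ▸ card_dvd_of_le (centralizer_le_normalizer' _)
    have h9 : 9 ∣ Nat.card (centralizer ((P : Subgroup G) : Set G)) := hP ▸ card_dvd_of_le hPC
    have h2 : ¬ 2 ∣ Nat.card (centralizer ((P : Subgroup G) : Set G)) := by
      intro h2
      haveI : Fact (Nat.Prime 2) := ⟨Nat.prime_two⟩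
      obtain ⟨⟨v, hv⟩, hv2⟩ := exists_prime_orderOf_dvd_card' 2 h2
      rw [Subgroup.orderOf_mk] at hv2
      refine not_nine_dvd h hv2 (H := (P : Subgroup G)) (fun y hy => ?_) (dvd_of_eq hP.symm)
      rw [mem_centralizer_singleton_iff]
      exact mem_centralizer_iff.mp hv y hy
    refine (Subgroup.eq_of_le_of_card_ge hPC ?_).symm
    rw [hP]
    have := Nat.le_of_dvd (by norm_num) hd
    interval_cases Nat.card (centralizer ((P : Subgroup G) : Set G)) <;> omega
  refine ⟨hP, hN, hCP, fun y hy => ?_⟩
  by_contra hy3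
  have hyd : orderOf y ∣ 3 ^ 2 := (orderOf_dvd_natCard _ hy).trans (by rw [hP]; norm_num)
  obtain ⟨i, hi, hoy⟩ := (Nat.dvd_prime_pow Nat.prime_three).mp hyd
  have hi2 : i = 2 := by
    rcases Nat.lt_or_ge i 2 with hh | hh
    · exact absurd (orderOf_dvd_iff_pow_eq_one.mp (hoy ▸ (show (3 : ℕ) ^ i ∣ 3 from by
        interval_cases i <;> norm_num))) hy3
    · omega
  subst hi2
  haveI hc : IsCyclic (P : Subgroup G) := by
    refine isCyclic_of_orderOf_eq_card (⟨y, hy⟩ : (P : Subgroup G)) ?_
    rw [Subgroup.orderOf_mk, hoy, hP]; norm_num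
  have key := card_dvd_of_injective _
    (QuotientGroup.kerLift_injective (P : Subgroup G).normalizerMonoidHom)
  rw [normalizerMonoidHom_ker, ← index, ← relIndex, hc.card_mulAut, hP] at key
  have hrel := ((centralizer ((P : Subgroup G) : Set G)).subgroupOf N).card_mul_index
  rw [Nat.card_congr (subgroupOfEquivOfLe (centralizer_le_normalizer' _)).toEquiv, hCP, hP, hN] at hrel
  rw [hCP] at key
  rw [show Nat.totient 9 = 6 by decide +kernel, relIndex] at key
  have h4 : ((P : Subgroup G).subgroupOf N).index = 4 := by omega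
  rw [hNdef] at h4
  rw [h4] at key
  norm_num at key

end Cfsg.Agent.Lib.SmallGroups.Order2520
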