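/-
In a simple group of order 2520 an element of order three which centralizes an involution has a
centralizer of order 36 with self-normalizing Sylow 3-subgroups.
-/
import Mathlib
import Cfsg.Agent.Lib.SmallGroups.Order2520.Three

set_option autoImplicit false
set_option linter.unusedSectionVars false
set_option linter.style.haveILetI false

namespace Cfsg.Agent.Lib.SmallGroups.Order2520

open Subgroup
open scoped Pointwise

universe u

section General

variable {G : Type u} [Group G]

theorem orderOf_conj (g a : G) : orderOf (g * a * g⁻¹) = orderOf a := by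
  rw [← MulAut.conj_apply, MulEquiv.orderOf_eq]

theorem conj_commute {a b : G} (g : G) (h : a * b = b * a) :
    g * a * g⁻¹ * (g * b * g⁻¹) = g * b * g⁻¹ * (g * a * g⁻¹) :=
  ((show Commute a b from h).map (MulAut.conj g).toMonoidHom).eq

/-- Equivariance of the fibres of commuting pairs. -/
theorem card_fibre {a b : G} (g : G) :
    Nat.card {v : G // IsConj b v ∧ g * a * g⁻¹ * v = v * (g * a * g⁻¹)} =
      Nat.card {v : G // IsConj b v ∧ a * v = v * a} := by
  refine Nat.card_congr ((MulAut.conj g).toEquiv.subtypeEquiv fun v => ?_).symm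
  show _ ↔ IsConj b (g * v * g⁻¹) ∧ g * a * g⁻¹ * (g * v * g⁻¹) = g * v * g⁻¹ * (g * a * g⁻¹)
  constructor
  · exact fun ⟨h1, h2⟩ => ⟨h1.trans (isConj_iff.mpr ⟨g, rfl⟩), conj_commute g h2⟩
  · rintro ⟨h1, h2⟩
    refine ⟨h1.trans (isConj_iff.mpr ⟨g⁻¹, by group⟩), ?_⟩
    have h3 := conj_commute g⁻¹ h2
    simpa [mul_assoc] using h3

/-- Double counting of commuting pairs in two classes. -/
theorem card_class_mul [Finite G] (a b : G) :
    Nat.card {w : G // IsConj a w} * Nat.card {v : G // IsConj b v ∧ a * v = v * a} =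
      Nat.card {v : G // IsConj b v} * Nat.card {w : G // IsConj a w ∧ b * w = w * b} := by
  classical
  haveI := Fintype.ofFinite G
  have side : ∀ x y : G, Nat.card (Σ w : {w : G // IsConj x w}, {v : G // IsConj y v ∧ w.1 * v = v * w.1}) =
      Nat.card {w : G // IsConj x w} * Nat.card {v : G // IsConj y v ∧ x * v = v * x} := by
    intro x y
    rw [Nat.card_sigma, Finset.sum_congr rfl fun w _ => ?_, Finset.sum_const, Finset.card_univ,
      smul_eq_mul, ← Nat.card_eq_fintype_card]
    obtain ⟨g, hg⟩ := isConj_iff.mp w.2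
    rw [← hg, card_fibre]
  rw [← side, ← side]
  refine Nat.card_congr ⟨fun z => ⟨⟨z.2.1, z.2.2.1⟩, ⟨z.1.1, z.1.2, z.2.2.2.symm⟩⟩,
    fun z => ⟨⟨z.2.1, z.2.2.1⟩, ⟨z.1.1, z.1.2, z.2.2.2.symm⟩⟩, fun z => rfl, fun z => rfl⟩

theorem eq_or_inv_of_mem_zpowers {w z : G} (hw : orderOf w = 3) (hz : z ∈ zpowers w) :
    z = 1 ∨ z = w ∨ z = w⁻¹ := by
  obtain ⟨i, rfl⟩ := mem_zpowers_iff.mp hz
  have h3 : w ^ (3 : ℤ) = 1 := by
    rw [show (3 : ℤ) = ((3 : ℕ) : ℤ) by norm_num, zpow_natCast, ← hw, pow_orderOf_eq_one]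
  have key : ∀ r : ℤ, w ^ (i : ℤ) = w ^ (r + 3 * (i / 3)) → w ^ i = w ^ r := fun r hr => by
    rw [hr, zpow_add, zpow_mul, h3, one_zpow, mul_one]
  rcases (show i % 3 = 0 ∨ i % 3 = 1 ∨ i % 3 = 2 by omega) with hi | hi | hi
  · left
    rw [key 0 (by congr 1; omega), zpow_zero]
  · right; left
    rw [key 1 (by congr 1; omega), zpow_one]
  · right; right
    rw [key 2 (by congr 1; omega), eq_inv_iff_mul_eq_one, ← zpow_add_one, show (2 : ℤ) + 1 = 3 by norm_num, h3]

end General

variable {G : Type u} [Group G] [Fintype G] [IsSimpleGroup G]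

/-- An element of order three with an involution in its centralizer. -/
def IsCentral (w : G) : Prop := orderOf w = 3 ∧ ∃ u : G, orderOf u = 2 ∧ u * w = w * u

theorem card_conjClass (h : Nat.card G = 2520) (a : G) :
    Nat.card {w : G // IsConj a w} * Nat.card (centralizer ({a} : Set G)) = 2520 := by
  rw [Chars.card_conjClass_eq_index, index_mul_card, h]

theorem IsCentral.inv {w : G} (hw : IsCentral w) : IsCentral w⁻¹ := by
  obtain ⟨h3, u, hu, hc⟩ := hw
  exact ⟨by rw [orderOf_inv, h3], u, hu, ((show Commute u w from hc).inv_right).eq⟩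

theorem IsCentral.conj {w : G} (hw : IsCentral w) (g : G) : IsCentral (g * w * g⁻¹) := by
  obtain ⟨h3, u, hu, hc⟩ := hw
  exact ⟨by rw [orderOf_conj, h3], g * u * g⁻¹, by rw [orderOf_conj, hu], conj_commute g hc⟩

variable [Fact (Nat.Prime 2)] [Fact (Nat.Prime 3)]

/-- Inside the normalizer of `P` an involution centralizing `w` fixes only the line of `w`. -/
theorem fix_line (h : Nat.card G = 2520) (h7 : ∀ H : Subgroup G, H.index ≠ 7) (P : Sylow 3 G)
    {w v : G} (hw : w ∈ (P : Subgroup G)) (hw3 : orderOf w = 3) (hv : orderOf v = 2)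
    (hc : v * w = w * v) {y : G} (hy : y ∈ (P : Subgroup G)) (hyv : v * y = y * v) :
    y ∈ zpowers w := by
  obtain ⟨hP, -, -, -⟩ := sylow_three h h7 P
  set F := (P : Subgroup G) ⊓ centralizer ({v} : Set G) with hF
  have hd : Nat.card F ∣ 9 := hP ▸ card_dvd_of_le inf_le_left
  have h9 : ¬ 9 ∣ Nat.card F := not_nine_dvd h hv inf_le_right
  have hwF : zpowers w ≤ F :=
    zpowers_le.mpr ⟨hw, mem_centralizer_singleton_iff.mpr hc.symm⟩
  have h3 : 3 ∣ Nat.card F := by
    have := card_dvd_of_le hwF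
    rwa [Nat.card_zpowers, hw3] at this
  have hF3 : Nat.card F = 3 := by
    have := Nat.le_of_dvd (by norm_num) hd
    interval_cases Nat.card F <;> omega
  rw [Subgroup.eq_of_le_of_card_ge hwF (by rw [hF3, Nat.card_zpowers, hw3])]
  exact ⟨hy, mem_centralizer_singleton_iff.mpr hyv.symm⟩

/-- The normalizer of a Sylow subgroup permutes a centralized line, when it contains an involution
centralizing it. -/
theorem normalizes_line (h : Nat.card G = 2520) (h7 : ∀ H : Subgroup G, H.index ≠ 7) (P : Sylow 3 G)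
    {w v : G} (hw : w ∈ (P : Subgroup G)) (hw3 : orderOf w = 3) (hv : orderOf v = 2)
    (hvN : v ∈ normalizer ((P : Subgroup G) : Set G)) (hc : v * w = w * v) :
    ∀ g ∈ normalizer ((P : Subgroup G) : Set G), g * w * g⁻¹ ∈ zpowers w := by
  obtain ⟨hP, hN, hCP, -⟩ := sylow_three h h7 P
  set N := normalizer ((P : Subgroup G) : Set G) with hNdef
  obtain ⟨T, hT⟩ := (IsPGroup.of_card (p := 2) (n := 1) (G := zpowers (⟨v, hvN⟩ : N))
    (by rw [Nat.card_zpowers, Subgroup.orderOf_mk, hv, pow_one])).exists_le_sylow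
  have hT4 : Nat.card (T : Subgroup N) = 4 :=
    (card_sylow_eq T (k := 2) (m := 9) (by rw [hN]; norm_num) (by norm_num)).trans (by norm_num)
  haveI := IsPGroup.isMulCommutative_of_card_eq_prime_sq (p := 2) (G := (T : Subgroup N))
    (by rw [hT4]; norm_num)
  have hTmem : ∀ g ∈ (T : Subgroup N), (g : G) * w * (g : G)⁻¹ ∈ zpowers w := by
    intro g hg
    have hvg : v * (g : G) = (g : G) * v := congrArg (fun z : (T : Subgroup N) => ((z : N) : G))
      (IsMulCommutative.is_comm.comm (⟨⟨v, hvN⟩, hT (mem_zpowers _)⟩ : (T : Subgroup N)) ⟨g, hg⟩)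
    refine fix_line h h7 P hw hw3 hv hc ((mem_normalizer_iff.mp g.2 w).mp hw) ?_
    calc v * ((g : G) * w * (g : G)⁻¹) = (v * g) * w * (g : G)⁻¹ := by group
      _ = (g : G) * (v * w) * (g : G)⁻¹ := by rw [hvg]; group
      _ = (g : G) * (w * v) * (g : G)⁻¹ := by rw [hc]
      _ = (g : G) * w * (g : G)⁻¹ * ((g : G) * v) * (g : G)⁻¹ := by group
      _ = (g : G) * w * (g : G)⁻¹ * v := by rw [← hvg]; group
  let L : Subgroup N := (normalizer ((zpowers w : Subgroup G) : Set G)).subgroupOf N
  have hmem : ∀ g : N, (g : G) * w * (g : G)⁻¹ ∈ zpowers w → g ∈ L := by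
    intro g hg
    rw [mem_subgroupOf, mem_normalizer_iff]
    have heq : (zpowers w).map (MulAut.conj (g : G)).toMonoidHom = zpowers w := by
      refine Subgroup.eq_of_le_of_card_ge ?_ (by rw [card_map_of_injective (MulAut.conj (g : G)).injective])
      rw [MonoidHom.map_zpowers, zpowers_le]
      simpa using hg
    intro z
    conv_rhs => rw [← heq]
    constructor
    · exact fun hz => ⟨z, hz, by simp⟩
    · rintro ⟨z', hz', hzz⟩
      simp only [MulEquiv.coe_toMonoidHom, MulAut.conj_apply] at hzz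
      rwa [mul_left_cancel (mul_right_cancel hzz)] at hz'
  have hTL : (T : Subgroup N) ≤ L := fun g hg => hmem g (hTmem g hg)
  have hPL : (P : Subgroup G).subgroupOf N ≤ L := by
    intro g hg
    refine hmem g ?_
    have h1 : (g : G) * w = w * g :=
      ((hCP.symm ▸ hg : (g : G) ∈ centralizer ((P : Subgroup G) : Set G)) w hw).symm
    rw [h1, mul_inv_cancel_right]
    exact mem_zpowers w
  have h4 := card_dvd_of_le hTL
  have h9 := card_dvd_of_le hPL
  rw [hT4] at h4
  rw [Nat.card_congr (subgroupOfEquivOfLe le_normalizer).toEquiv, hP] at h9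
  have hL : L = ⊤ := Subgroup.eq_top_of_card_eq _ (Nat.dvd_antisymm (card_subgroup_dvd_card _)
    (by rw [hN]; exact (show Nat.Coprime 4 9 by norm_num).mul_dvd_of_dvd_of_dvd h4 h9))
  intro g hg
  have h1 : (⟨g, hg⟩ : N) ∈ L := hL ▸ mem_top _
  exact (mem_normalizer_iff.mp (mem_subgroupOf.mp h1) w).mp (mem_zpowers w)

/-- The normalizer of a Sylow subgroup centralizes none of its elements of order three. -/
theorem not_le_centralizer (h : Nat.card G = 2520) (h7 : ∀ H : Subgroup G, H.index ≠ 7) (P : Sylow 3 G)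
    {w : G} (hw : w ∈ (P : Subgroup G)) (hw3 : orderOf w = 3) :
    ¬ normalizer ((P : Subgroup G) : Set G) ≤ centralizer ({w} : Set G) := by
  intro hle
  obtain ⟨hP, hN, hCP, hexp⟩ := sylow_three h h7 P
  set N := normalizer ((P : Subgroup G) : Set G) with hNdef
  obtain ⟨T⟩ := (inferInstance : Nonempty (Sylow 2 N))
  have hT4 : Nat.card (T : Subgroup N) = 4 :=
    (card_sylow_eq T (k := 2) (m := 9) (by rw [hN]; norm_num) (by norm_num)).trans (by norm_num)
  haveI hPcomm : IsMulCommutative (P : Subgroup G) :=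
    IsPGroup.isMulCommutative_of_card_eq_prime_sq (p := 3) (by rw [hP]; norm_num)
  -- a second generator
  obtain ⟨y, hy, hyw⟩ : ∃ y ∈ (P : Subgroup G), y ∉ zpowers w := by
    by_contra hh
    push Not at hh
    have := card_dvd_of_le (H := (P : Subgroup G)) hh
    rw [hP, Nat.card_zpowers, hw3] at this
    norm_num at this
  have hgen : ∀ z ∈ (P : Subgroup G), ∃ c ∈ zpowers w, ∃ i : ℤ, z = c * y ^ i := by
    intro z hz
    have hsup : zpowers w ⊔ zpowers y = (P : Subgroup G) := by
      refine Subgroup.eq_of_le_of_card_ge (sup_le (zpowers_le.mpr hw) (zpowers_le.mpr hy)) ?_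
      have h1 := card_dvd_of_le (K := (P : Subgroup G)) (sup_le (zpowers_le.mpr hw) (zpowers_le.mpr hy))
      have h2 := card_dvd_of_le (le_sup_left : zpowers w ≤ zpowers w ⊔ zpowers y)
      rw [hP] at h1 ⊢
      rw [Nat.card_zpowers, hw3] at h2
      have hne : Nat.card (zpowers w ⊔ zpowers y : Subgroup G) ≠ 3 := fun h3 => hyw (by
        rw [Subgroup.eq_of_le_of_card_ge (le_sup_left : zpowers w ≤ zpowers w ⊔ zpowers y)
          (by rw [h3, Nat.card_zpowers, hw3])]
        exact mem_sup_right (mem_zpowers y))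
      have := Nat.le_of_dvd (by norm_num) h1
      interval_cases Nat.card (zpowers w ⊔ zpowers y : Subgroup G) <;> omega
    rw [← hsup] at hz
    have hnorm : zpowers y ≤ normalizer ((zpowers w : Subgroup G) : Set G) := by
      refine le_trans ?_ (centralizer_le_normalizer' _)
      rw [zpowers_le, mem_centralizer_iff]
      intro c hc
      exact congrArg Subtype.val (IsMulCommutative.is_comm.comm
        (⟨c, zpowers_le.mpr hw hc⟩ : (P : Subgroup G)) ⟨y, hy⟩)
    have hz' : z ∈ ((zpowers w : Subgroup G) : Set G) * ((zpowers y : Subgroup G) : Set G) := by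
      rw [← Subgroup.coe_mul_of_right_le_normalizer_left _ _ hnorm]
      exact hz
    obtain ⟨c, hc, d, hd, rfl⟩ := Set.mem_mul.mp hz'
    obtain ⟨i, rfl⟩ := mem_zpowers_iff.mp hd
    exact ⟨c, hc, i, rfl⟩
  have himg : ∀ g ∈ (T : Subgroup N), g ≠ 1 → ∃ c ∈ zpowers w, (g : G) * y * (g : G)⁻¹ = c * y⁻¹ := by
    intro g hg hg1
    obtain ⟨c, hc, i, hi⟩ := hgen _ ((mem_normalizer_iff.mp g.2 y).mp hy)
    have hcy : c * y = y * c := congrArg Subtype.val (IsMulCommutative.is_comm.comm
      (⟨c, zpowers_le.mpr hw hc⟩ : (P : Subgroup G)) ⟨y, hy⟩)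
    have hy3 : y ^ (3 : ℤ) = 1 := by
      rw [show (3 : ℤ) = ((3 : ℕ) : ℤ) by norm_num, zpow_natCast]; exact hexp y hy
    have hgc : (g : G) * c = c * g := by
      obtain ⟨j, rfl⟩ := mem_zpowers_iff.mp hc
      exact ((show Commute (g : G) w from mem_centralizer_singleton_iff.mp (hle g.2)).zpow_right j).eq
    have hyi : y ^ i = y ^ (i % 3) := by
      conv_lhs => rw [show i = i % 3 + 3 * (i / 3) by omega, zpow_add, zpow_mul, hy3, one_zpow, mul_one]
    rcases (show i % 3 = 0 ∨ i % 3 = 1 ∨ i % 3 = 2 by omega) with h3 | h3 | h3 <;> rw [hyi, h3] at hi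
    · exfalso
      rw [zpow_zero, mul_one] at hi
      refine hyw ?_
      rw [show y = (g : G)⁻¹ * ((g : G) * y * (g : G)⁻¹) * (g : G) by group, hi, mul_assoc, ← hgc,
        inv_mul_cancel_left]
      exact hc
    · exfalso
      rw [zpow_one] at hi
      have hpow : ∀ k : ℕ, (g : G) ^ k * y * ((g : G) ^ k)⁻¹ = c ^ k * y := by
        intro k
        induction k with
        | zero => simp
        | succ k ih =>
          calc (g : G) ^ (k + 1) * y * ((g : G) ^ (k + 1))⁻¹
              = (g : G) * ((g : G) ^ k * y * ((g : G) ^ k)⁻¹) * (g : G)⁻¹ := by rw [pow_succ']; group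
            _ = ((g : G) * c ^ k) * y * (g : G)⁻¹ := by rw [ih]; group
            _ = c ^ k * ((g : G) * y * (g : G)⁻¹) := by
              rw [((show Commute (g : G) c from hgc).pow_right k).eq]; group
            _ = c ^ (k + 1) * y := by rw [hi, pow_succ, mul_assoc]
      have hg4 : (g : G) ^ 4 = 1 := by
        have h1 := congrArg (fun z : (T : Subgroup N) => ((z : N) : G)) (pow_card_eq_one' (x := (⟨g, hg⟩ : (T : Subgroup N))))
        simpa [hT4] using h1
      have h1 := hpow 4
      rw [hg4, one_mul, inv_one, mul_one, eq_comm, mul_eq_right] at h1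
      have hc3 : c ^ 3 = 1 := hexp c (zpowers_le.mpr hw hc)
      rw [show (4 : ℕ) = 3 + 1 by norm_num, pow_succ, hc3, one_mul] at h1
      rw [h1, one_mul] at hi
      have hgP : (g : G) ∈ centralizer ((P : Subgroup G) : Set G) := by
        refine mem_centralizer_iff.mpr fun z hz => ?_
        obtain ⟨c', hc', i', rfl⟩ := hgen z hz
        obtain ⟨j, rfl⟩ := mem_zpowers_iff.mp hc'
        exact ((((show Commute (g : G) w from mem_centralizer_singleton_iff.mp (hle g.2)).zpow_right j).mul_right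
          ((show Commute (g : G) y from mul_inv_eq_iff_eq_mul.mp hi).zpow_right i'))).symm.eq
      rw [hCP] at hgP
      have h2 := orderOf_dvd_natCard _ hgP
      rw [hP] at h2
      exact hg1 (Subtype.ext (orderOf_eq_one_iff.mp (Nat.eq_one_of_dvd_coprimes
        (show Nat.Coprime 4 9 by norm_num) (orderOf_dvd_of_pow_eq_one hg4) h2)))
    · exact ⟨c, hc, by
        rw [hi, show y ^ (2 : ℤ) = y⁻¹ by
          rw [eq_inv_iff_mul_eq_one, ← zpow_add_one, show (2 : ℤ) + 1 = 3 by norm_num, hy3]]⟩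
  have hprod : ∀ g ∈ (T : Subgroup N), g ≠ 1 → ∀ g' ∈ (T : Subgroup N), g' ≠ 1 → g * g' = 1 := by
    intro g hg hg1 g' hg' hg1'
    by_contra hne
    obtain ⟨c, hc, hcg⟩ := himg g hg hg1
    obtain ⟨c', hc', hcg'⟩ := himg g' hg' hg1'
    obtain ⟨d, hd, hdg⟩ := himg _ (mul_mem hg hg') hne
    have hgc : (g : G) * c' * (g : G)⁻¹ = c' := by
      obtain ⟨j, rfl⟩ := mem_zpowers_iff.mp hc'
      rw [((show Commute (g : G) w from mem_centralizer_singleton_iff.mp (hle g.2)).zpow_right j).eq,
        mul_inv_cancel_right]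
    have h1 : ((g * g' : N) : G) * y * ((g * g' : N) : G)⁻¹ = c' * y * c⁻¹ := by
      calc ((g * g' : N) : G) * y * ((g * g' : N) : G)⁻¹
          = (g : G) * ((g' : G) * y * (g' : G)⁻¹) * (g : G)⁻¹ := by rw [Subgroup.coe_mul]; group
        _ = ((g : G) * c' * (g : G)⁻¹) * ((g : G) * y * (g : G)⁻¹)⁻¹ := by rw [hcg']; group
        _ = _ := by rw [hgc, hcg, mul_inv_rev, inv_inv]; group
    rw [h1] at hdg
    have hcomm2 : c' * y * c⁻¹ = c' * c⁻¹ * y := by
      rw [mul_assoc, mul_assoc]
      congr 1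
      exact congrArg Subtype.val (IsMulCommutative.is_comm.comm
        (⟨y, hy⟩ : (P : Subgroup G)) ⟨c⁻¹, zpowers_le.mpr hw ((zpowers w).inv_mem hc)⟩)
    rw [hcomm2] at hdg
    have h2 : y * y = (c' * c⁻¹)⁻¹ * d := by
      calc y * y = (c' * c⁻¹)⁻¹ * (c' * c⁻¹ * y) * y := by group
        _ = _ := by rw [hdg]; group
    refine hyw ?_
    have h3 : y * y ∈ zpowers w := by
      rw [h2]
      exact mul_mem ((zpowers w).inv_mem (mul_mem hc' ((zpowers w).inv_mem hc))) hd
    rw [show y = (y * y) * (y * y) by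
      calc y = y ^ 3 * y := by rw [hexp y hy, one_mul]
        _ = _ := by simp only [pow_succ, pow_zero, one_mul, mul_assoc]]
    exact mul_mem h3 h3
  haveI : Nontrivial (T : Subgroup N) := Finite.one_lt_card_iff_nontrivial.mp (by rw [hT4]; norm_num)
  obtain ⟨g, hg⟩ := exists_ne (1 : (T : Subgroup N))
  have hall : ∀ g' : (T : Subgroup N), g' ≠ 1 → g' = g⁻¹ := fun g' hg' =>
    eq_inv_of_mul_eq_one_right (Subtype.ext (hprod g g.2 (fun hh => hg (Subtype.ext hh)) g' g'.2
      (fun hh => hg' (Subtype.ext hh))))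
  have hle2 : Nat.card (T : Subgroup N) ≤ 2 := by
    refine (Nat.card_le_card_of_surjective (fun b : Bool => if b then (1 : (T : Subgroup N)) else g⁻¹)
      fun g' => ?_).trans (by simp)
    by_cases hg' : g' = 1
    · exact ⟨true, by simp [hg']⟩
    · exact ⟨false, by simp [hall g' hg']⟩
  omega

end Cfsg.Agent.Lib.SmallGroups.Order2520
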