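/-
The centralizer of an element of order three which centralizes an involution.
-/
import Mathlib
import Cfsg.Agent.Lib.SmallGroups.Order2520.Commuting

set_option autoImplicit false
set_option linter.unusedSectionVars false
set_option linter.style.haveILetI false

namespace Cfsg.Agent.Lib.SmallGroups.Order2520

open Subgroup

universe u

variable {G : Type u} [Group G] [Fintype G] [IsSimpleGroup G] [Fact (Nat.Prime 2)] [Fact (Nat.Prime 3)]

theorem exists_sylow_mem {w : G} (hw : orderOf w = 3) : ∃ P : Sylow 3 G, w ∈ (P : Subgroup G) := by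
  obtain ⟨P, hP⟩ := (IsPGroup.of_card (p := 3) (n := 1) (G := zpowers w)
    (by rw [Nat.card_zpowers, hw, pow_one])).exists_le_sylow
  exact ⟨P, hP (mem_zpowers w)⟩

theorem IsCentral.facts (h : Nat.card G = 2520) (h7 : ∀ H : Subgroup G, H.index ≠ 7) {w : G}
    (hw : IsCentral w) (P : Sylow 3 G) (hwP : w ∈ (P : Subgroup G)) :
    Nat.card (centralizer ({w} : Set G)) = 36 ∧
      centralizer ({w} : Set G) ⊓ normalizer ((P : Subgroup G) : Set G) = (P : Subgroup G) := by
  classical
  have hw3 : orderOf w = 3 := hw.1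
  obtain ⟨hP, hN, hCP, hexp⟩ := sylow_three h h7 P
  set C := centralizer ({w} : Set G) with hCdef
  set N := normalizer ((P : Subgroup G) : Set G) with hNdef
  haveI hPcomm : IsMulCommutative (P : Subgroup G) :=
    IsPGroup.isMulCommutative_of_card_eq_prime_sq (p := 3) (by rw [hP]; norm_num)
  have hPC : (P : Subgroup G) ≤ C := fun y hy => mem_centralizer_singleton_iff.mpr
    (congrArg Subtype.val (IsMulCommutative.is_comm.comm (⟨y, hy⟩ : (P : Subgroup G)) ⟨w, hwP⟩))
  set M := C ⊓ N with hMdef
  have hPM : (P : Subgroup G) ≤ M := le_inf hPC le_normalizer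
  have hM36 : Nat.card M ∣ 36 := hN ▸ card_dvd_of_le inf_le_right
  have h9M : 9 ∣ Nat.card M := hP ▸ card_dvd_of_le hPM
  -- Sylow number inside the centralizer
  obtain ⟨n, hn1, hnC⟩ : ∃ n, n % 3 = 1 ∧ Nat.card C = n * Nat.card M := by
    have hnorm : N.subgroupOf C = normalizer ((P.subtype hPC : Subgroup C) : Set C) := by
      rw [Sylow.coe_subtype]
      exact subgroupOf_normalizer_eq hPC
    have hm : Nat.card (normalizer ((P.subtype hPC : Subgroup C) : Set C)) = Nat.card M := by
      rw [← hnorm]
      exact Nat.card_congr ⟨fun z => ⟨z.1.1, z.1.2, z.2⟩, fun z => ⟨⟨z.1, z.2.1⟩, z.2.2⟩,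
        fun z => rfl, fun z => rfl⟩
    have hmul := card_normalizer_sylow_mul (P.subtype hPC)
    rw [hm] at hmul
    refine ⟨_, ?_, hmul.symm.trans (mul_comm _ _)⟩
    have := card_sylow_modEq_one 3 C
    rwa [Nat.ModEq] at this
  -- no fives, no sevens, an involution
  have hno : ∀ q : ℕ, q = 5 ∨ q = 7 → ¬ q ∣ Nat.card C := by
    intro q hq hd
    haveI : Fact q.Prime := ⟨by rcases hq with rfl | rfl <;> norm_num⟩
    obtain ⟨⟨g, hgC⟩, hg⟩ := exists_prime_orderOf_dvd_card' q hd
    rw [Subgroup.orderOf_mk] at hg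
    have := eq_one_of_commute h (hg ▸ hq) (mem_centralizer_singleton_iff.mp hgC) (k := 1) (by rw [hw3, pow_one])
    rw [this, orderOf_one] at hw3
    norm_num at hw3
  obtain ⟨u, hu, huw⟩ := hw.2
  have h2C : 2 ∣ Nat.card C := hu ▸ orderOf_dvd_natCard _ (mem_centralizer_singleton_iff.mpr huw)
  have hC72 : Nat.card C ∣ 72 := by
    have h1 : Nat.card C ∣ 35 * 72 := by
      rw [show 35 * 72 = Nat.card G by rw [h]]; exact card_subgroup_dvd_card C
    have h35 : Nat.Coprime (Nat.card C) 35 :=
      Nat.Coprime.mul_right (k := Nat.card C) (m := 5) (n := 7)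
        (((by norm_num : Nat.Prime 5).coprime_iff_not_dvd.mpr (hno 5 (Or.inl rfl))).symm)
        (((by norm_num : Nat.Prime 7).coprime_iff_not_dvd.mpr (hno 7 (Or.inr rfl))).symm)
    exact h35.dvd_of_dvd_mul_left h1
  have hodd : ∀ v ∈ M, orderOf v = 2 → False := by
    intro v hvM hv
    have hvw : v * w = w * v := mem_centralizer_singleton_iff.mp hvM.1
    have hline := normalizes_line h h7 P hwP hw3 hv hvM.2 hvw
    have hne36 : Nat.card M ≠ 36 := fun h36 => not_le_centralizer h h7 P hwP hw3 (by
      rw [← hNdef, ← Subgroup.eq_of_le_of_card_ge (inf_le_right : M ≤ N) (by rw [h36, hN])]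
      exact inf_le_left)
    have hM2 : 2 ∣ Nat.card M := hv ▸ orderOf_dvd_natCard _ hvM
    have hM18 : Nat.card M = 18 := by
      have := Nat.le_of_dvd (by norm_num) hM36
      interval_cases Nat.card M <;> omega
    obtain ⟨g0, hg0N, hg0⟩ : ∃ g ∈ N, g * w * g⁻¹ = w⁻¹ := by
      by_contra hh
      push Not at hh
      refine not_le_centralizer h h7 P hwP hw3 fun g hg => mem_centralizer_singleton_iff.mpr ?_
      rcases eq_or_inv_of_mem_zpowers hw3 (hline g hg) with hz | hz | hz
      · exfalso
        have : w = 1 := by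
          rw [show w = g⁻¹ * (g * w * g⁻¹) * g by group, hz]; group
        rw [this, orderOf_one] at hw3; norm_num at hw3
      · exact mul_inv_eq_iff_eq_mul.mp hz
      · exact absurd hz (hh g hg)
    have hclass := card_conjClass h w
    rw [← hCdef, hnC, hM18] at hclass
    have hle := Nat.le_of_dvd (by norm_num) hC72
    rw [hnC, hM18] at hle
    have hn4 : n ≤ 4 := by omega
    obtain rfl | rfl : n = 1 ∨ n = 4 := by omega
    swap
    · -- the class is odd and closed under inversion
      let σ : Equiv.Perm {z : G // IsConj w z} :=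
        (Equiv.inv G).subtypeEquiv fun z => by
          have key : ∀ z : G, IsConj w z → IsConj w z⁻¹ := fun z hz => by
            obtain ⟨c, rfl⟩ := isConj_iff.mp hz
            refine isConj_iff.mpr ⟨c * g0, ?_⟩
            rw [show c * g0 * w * (c * g0)⁻¹ = c * (g0 * w * g0⁻¹) * c⁻¹ by group, hg0]
            group
          exact ⟨key z, fun hz => by simpa using key _ hz⟩
      haveI := Fintype.ofFinite {z : G // IsConj w z}
      obtain ⟨⟨z, hz⟩, hfix⟩ := Equiv.Perm.exists_fixed_point_of_prime (p := 2) (n := 1) (σ := σ)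
        (by rw [← Nat.card_eq_fintype_card]; omega)
        (by rw [pow_one, sq]; exact Equiv.ext fun z => Subtype.ext (inv_inv z.1))
      have h1 : z⁻¹ = z := congrArg Subtype.val hfix
      have h2 : z ^ 2 = 1 := by rw [sq]; exact inv_eq_iff_mul_eq_one.mp h1
      obtain ⟨c, rfl⟩ := isConj_iff.mp hz
      have h3 := orderOf_dvd_of_pow_eq_one h2
      rw [orderOf_conj, hw3] at h3
      norm_num at h3
    · -- double counting
      have hC18 : Nat.card C = 18 := by rw [hnC, hM18]
      obtain ⟨S⟩ := (inferInstance : Nonempty (Sylow 2 C))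
      have hS : Nat.card (S : Subgroup C) = 2 :=
        (card_sylow_eq S (k := 1) (m := 9) (by rw [hC18]; norm_num) (by norm_num)).trans (by norm_num)
      set Cv := centralizer ({v} : Set G) with hCvdef
      have hCv : Nat.card Cv = 24 := card_centralizer_involution h hv
      obtain ⟨R⟩ := (inferInstance : Nonempty (Sylow 3 Cv))
      have hR : Nat.card (R : Subgroup Cv) = 3 :=
        (card_sylow_eq R (k := 1) (m := 8) (by rw [hCv]; norm_num) (by norm_num)).trans (by norm_num)
      have hI : Nat.card {z : G // IsConj v z ∧ w * z = z * w} = Nat.card (Sylow 2 C) := by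
        rw [show Nat.card (Sylow 2 C) = Nat.card (Sylow 2 C) * (2 - 1) by norm_num,
          ← card_orderOf_eq_prime S hS]
        refine Nat.card_congr ⟨fun z => ⟨⟨z.1, mem_centralizer_singleton_iff.mpr z.2.2.symm⟩, by
            obtain ⟨c, hc⟩ := isConj_iff.mp z.2.1
            rw [Subgroup.orderOf_mk, ← hc, orderOf_conj, hv]⟩,
          fun z => ⟨z.1.1, ?_, (mem_centralizer_singleton_iff.mp z.1.2).symm⟩, fun z => rfl, fun z => rfl⟩
        have hvC : v ∈ C := hvM.1
        obtain ⟨Q, hQ, -⟩ := existsUnique_sylow_of_orderOf S hS (y := (⟨v, hvC⟩ : C))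
          (by rw [Subgroup.orderOf_mk, hv])
        obtain ⟨Q', hQ', -⟩ := existsUnique_sylow_of_orderOf S hS (y := z.1) z.2
        obtain ⟨c, rfl⟩ := MulAction.exists_smul_eq C Q Q'
        have hmem : (MulAut.conj c) (⟨v, hvC⟩ : C) ∈ zpowers z.1 := by
          rw [← hQ', Sylow.coe_subgroup_smul]
          exact Subgroup.smul_mem_pointwise_smul _ _ _ (hQ ▸ mem_zpowers _)
        have heq : (MulAut.conj c) (⟨v, hvC⟩ : C) = z.1 := by
          obtain ⟨i, hi⟩ := mem_zpowers_iff.mp hmem
          have h22 : z.1 ^ (2 : ℤ) = 1 := by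
            rw [show (2 : ℤ) = ((2 : ℕ) : ℤ) by norm_num, zpow_natCast]; exact orderOf_dvd_iff_pow_eq_one.mp (dvd_of_eq z.2)
          rcases (show i % 2 = 0 ∨ i % 2 = 1 by omega) with hi2 | hi2 <;>
            rw [show i = i % 2 + 2 * (i / 2) by omega, zpow_add, zpow_mul, h22, one_zpow, mul_one, hi2] at hi
          · exfalso
            rw [zpow_zero, eq_comm, map_eq_one_iff _ (MulAut.conj c).injective] at hi
            have := congrArg Subtype.val hi
            simp only [OneMemClass.coe_one] at this
            rw [this, orderOf_one] at hv; norm_num at hv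
          · rw [zpow_one] at hi; exact hi.symm
        exact isConj_iff.mpr ⟨(c : G), by rw [← heq]; rfl⟩
      have hJ : Nat.card {z : G // IsConj w z ∧ v * z = z * v} = Nat.card (Sylow 3 Cv) * (3 - 1) := by
        rw [← card_orderOf_eq_prime R hR]
        refine Nat.card_congr ⟨fun z => ⟨⟨z.1, mem_centralizer_singleton_iff.mpr z.2.2.symm⟩, by
            obtain ⟨c, hc⟩ := isConj_iff.mp z.2.1
            rw [Subgroup.orderOf_mk, ← hc, orderOf_conj, hw3]⟩,
          fun z => ⟨z.1.1, ?_, (mem_centralizer_singleton_iff.mp z.1.2).symm⟩, fun z => rfl, fun z => rfl⟩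
        have hwCv : w ∈ Cv := mem_centralizer_singleton_iff.mpr hvw.symm
        obtain ⟨Q, hQ, -⟩ := existsUnique_sylow_of_orderOf R hR (y := (⟨w, hwCv⟩ : Cv))
          (by rw [Subgroup.orderOf_mk, hw3])
        obtain ⟨Q', hQ', -⟩ := existsUnique_sylow_of_orderOf R hR (y := z.1) z.2
        obtain ⟨c, rfl⟩ := MulAction.exists_smul_eq Cv Q Q'
        have hmem : (MulAut.conj c) (⟨w, hwCv⟩ : Cv) ∈ zpowers z.1 := by
          rw [← hQ', Sylow.coe_subgroup_smul]
          exact Subgroup.smul_mem_pointwise_smul _ _ _ (hQ ▸ mem_zpowers _)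
        rcases eq_or_inv_of_mem_zpowers z.2 hmem with hz | hz | hz
        · exfalso
          rw [map_eq_one_iff _ (MulAut.conj c).injective] at hz
          have := congrArg Subtype.val hz
          simp only [OneMemClass.coe_one] at this
          rw [this, orderOf_one] at hw3; norm_num at hw3
        · exact isConj_iff.mpr ⟨(c : G), by rw [← hz]; rfl⟩
        · refine (isConj_iff.mpr ⟨(c : G) * g0, ?_⟩)
          rw [show (z.1 : G) = ((z.1⁻¹)⁻¹ : Cv) by rw [inv_inv], ← hz,
            show (c : G) * g0 * w * ((c : G) * g0)⁻¹ = (c : G) * (g0 * w * g0⁻¹) * (c : G)⁻¹ by group, hg0,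
            Subgroup.coe_inv]
          show _ = ((c : G) * w * (c : G)⁻¹)⁻¹
          group
      have hcount := card_class_mul w v
      have hv105 := card_conjClass h v
      rw [← hCvdef, hCv] at hv105
      rw [hI, hJ] at hcount
      have hn2 := card_sylow_dvd (G := C) (p := 2) (k := 1) (m := 9) (by rw [hC18]; norm_num) (by norm_num)
      have hn3 := card_sylow_dvd (G := Cv) (p := 3) (k := 1) (m := 8) (by rw [hCv]; norm_num) (by norm_num)
      have hn3' := card_sylow_modEq_one 3 Cv
      rw [Nat.ModEq] at hn3'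
      have e1 : Nat.card {z : G // IsConj w z} = 140 := by omega
      have e2 : Nat.card {z : G // IsConj v z} = 105 := by omega
      rw [e1, e2] at hcount
      have := Nat.le_of_dvd (by norm_num) hn2
      have := Nat.le_of_dvd (by norm_num) hn3
      interval_cases Nat.card (Sylow 3 Cv) <;> first | omega | (norm_num at hn3; done) | (interval_cases Nat.card (Sylow 2 C) <;> first | omega | (norm_num at hn2; done))
  have hM9 : Nat.card M = 9 := by
    have h2 : ¬ 2 ∣ Nat.card M := fun hd => by
      obtain ⟨⟨v, hv⟩, hv2⟩ := exists_prime_orderOf_dvd_card' 2 hd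
      rw [Subgroup.orderOf_mk] at hv2
      exact hodd v hv hv2
    have := Nat.le_of_dvd (by norm_num) hM36
    interval_cases Nat.card M <;> omega
  refine ⟨?_, (Subgroup.eq_of_le_of_card_ge hPM (by rw [hM9, hP])).symm⟩
  rw [hnC, hM9] at hC72 h2C ⊢
  have := Nat.le_of_dvd (by norm_num) hC72
  have : n ≤ 8 := by omega
  interval_cases n <;> omega

end Cfsg.Agent.Lib.SmallGroups.Order2520
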