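/-
The geometry of the lines spanned by the central elements of order three in a simple group of
order 2520.
-/
import Mathlib
import Cfsg.Agent.Lib.SmallGroups.Order2520.Central
import Cfsg.Agent.Lib.DihedralTransfer.Basic

set_option autoImplicit false
set_option linter.unusedSectionVars false
set_option linter.style.haveILetI false

namespace Cfsg.Agent.Lib.SmallGroups.Order2520

open Subgroup

universe u

section General

variable {G : Type u} [Group G]

theorem ne_one_of_orderOf {w : G} {n : ℕ} (hn : 2 ≤ n) (hw : orderOf w = n) : w ≠ 1 := fun h => by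
  rw [h, orderOf_one] at hw; omega

theorem mem_zpowers_symm {w z : G} (hw : orderOf w = 3) (hz : z ∈ zpowers w) (hz1 : z ≠ 1) :
    w ∈ zpowers z := by
  rcases eq_or_inv_of_mem_zpowers hw hz with h | h | h
  · exact absurd h hz1
  · exact h ▸ mem_zpowers _
  · rw [h]; simpa using (zpowers w⁻¹).inv_mem (mem_zpowers w⁻¹)

theorem zpowers_inf_eq_bot {w y : G} (hw : orderOf w = 3) (hy : orderOf y = 3) (hne : y ∉ zpowers w) :
    Disjoint (zpowers w) (zpowers y) := by
  rw [disjoint_iff, eq_bot_iff_forall]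
  rintro z ⟨h1, h2⟩
  by_contra hz
  refine hne ?_
  have h3 := mem_zpowers_symm hy h2 hz
  exact zpowers_le.mpr h1 h3

/-- A subgroup containing two independent commuting elements of order three. -/
theorem exists_plane [Finite G] {w y : G} (hw : orderOf w = 3) (hy : orderOf y = 3) (hc : w * y = y * w)
    (hne : y ∉ zpowers w) :
    ∃ H : Subgroup G, Nat.card H = 9 ∧ w ∈ H ∧ y ∈ H ∧
      ∀ K : Subgroup G, w ∈ K → y ∈ K → H ≤ K := by
  let f : (zpowers w) × (zpowers y) →* G :=
    { toFun := fun a => (a.1 : G) * a.2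
      map_one' := by simp
      map_mul' := fun a b => by
        obtain ⟨i, hi⟩ := mem_zpowers_iff.mp b.1.2
        obtain ⟨j, hj⟩ := mem_zpowers_iff.mp a.2.2
        simp only [Prod.fst_mul, Prod.snd_mul, Subgroup.coe_mul, ← hi, ← hj]
        rw [mul_assoc, ← mul_assoc (w ^ i), ((show Commute w y from hc).zpow_zpow i j).eq, mul_assoc,
          ← mul_assoc] }
  have hf : Function.Injective f := by
    rw [injective_iff_map_eq_one]
    rintro ⟨⟨a, ha⟩, ⟨b, hb⟩⟩ h
    have h' : a * b = 1 := h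
    have ha1 : a = 1 := Subgroup.disjoint_def.mp (zpowers_inf_eq_bot hw hy hne) ha
      (by rw [eq_inv_of_mul_eq_one_left h']; exact inv_mem hb)
    subst ha1
    rw [one_mul] at h'
    subst h'
    rfl
  refine ⟨f.range, ?_, ⟨(⟨w, mem_zpowers w⟩, 1), by simp [f]⟩, ⟨(1, ⟨y, mem_zpowers y⟩), by simp [f]⟩,
    fun K h1 h2 => ?_⟩
  · rw [← Nat.card_congr (MonoidHom.ofInjective hf).toEquiv, Nat.card_prod, Nat.card_zpowers,
      Nat.card_zpowers, hw, hy]
  · rintro _ ⟨a, rfl⟩
    exact K.mul_mem (zpowers_le.mpr h1 a.1.2) (zpowers_le.mpr h2 a.2.2)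

end General

variable {G : Type u} [Group G] [Fintype G] [IsSimpleGroup G] [Fact (Nat.Prime 2)] [Fact (Nat.Prime 3)]

/-- No plane lies in the centralizer of an involution. -/
theorem mem_zpowers_of_commute (h : Nat.card G = 2520) {w y v : G} (hw : orderOf w = 3)
    (hy : orderOf y = 3) (hwy : w * y = y * w) (hv : orderOf v = 2) (hwv : v * w = w * v)
    (hyv : v * y = y * v) : y ∈ zpowers w := by
  by_contra hne
  obtain ⟨H, hH, -, -, hle⟩ := exists_plane hw hy hwy hne
  exact not_nine_dvd h hv (hle _ (mem_centralizer_singleton_iff.mpr hwv.symm)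
    (mem_centralizer_singleton_iff.mpr hyv.symm)) (dvd_of_eq hH.symm)

theorem exists_sylow_plane {w y : G} (hw : orderOf w = 3) (hy : orderOf y = 3) (hwy : w * y = y * w)
    (hne : y ∉ zpowers w) : ∃ P : Sylow 3 G, w ∈ (P : Subgroup G) ∧ y ∈ (P : Subgroup G) := by
  obtain ⟨H, hH, h1, h2, -⟩ := exists_plane hw hy hwy hne
  obtain ⟨P, hP⟩ := (IsPGroup.of_card (p := 3) (n := 2) (G := H) (by rw [hH]; norm_num)).exists_le_sylow
  exact ⟨P, hP h1, hP h2⟩

variable (G) in
/-- The order is 2520 and no subgroup has index seven. -/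
structure Hyp : Prop where
  card : Nat.card G = 2520
  index : ∀ H : Subgroup G, H.index ≠ 7

namespace Hyp

variable (hh : Hyp G)

include hh

theorem commute_sylow (P : Sylow 3 G) {a b : G} (ha : a ∈ (P : Subgroup G)) (hb : b ∈ (P : Subgroup G)) :
    a * b = b * a := by
  obtain ⟨hP, -, -, -⟩ := sylow_three hh.card hh.index P
  haveI : IsMulCommutative (P : Subgroup G) :=
    IsPGroup.isMulCommutative_of_card_eq_prime_sq (p := 3) (by rw [hP]; norm_num)
  exact congrArg Subtype.val (IsMulCommutative.is_comm.comm (⟨a, ha⟩ : (P : Subgroup G)) ⟨b, hb⟩)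

theorem card_centralizer {w : G} (hw : IsCentral w) : Nat.card (centralizer ({w} : Set G)) = 36 := by
  obtain ⟨P, hP⟩ := exists_sylow_mem hw.1
  exact (hw.facts hh.card hh.index P hP).1

/-- The normal four-group of the centralizer. -/
theorem exists_kernel {w : G} (hw : IsCentral w) :
    ∃ U : Subgroup G, Nat.card U = 4 ∧ U ≤ centralizer ({w} : Set G) ∧ (∀ u ∈ U, u * u = 1) ∧
      (∀ u ∈ centralizer ({w} : Set G), u * u = 1 → u ∈ U) ∧
      (∀ c ∈ centralizer ({w} : Set G), ∀ u ∈ U, c * u * c⁻¹ ∈ U) := by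
  classical
  obtain ⟨P, hwP⟩ := exists_sylow_mem hw.1
  obtain ⟨hC, hM⟩ := hw.facts hh.card hh.index P hwP
  obtain ⟨hP, -, -, -⟩ := sylow_three hh.card hh.index P
  set C := centralizer ({w} : Set G) with hCdef
  have hPC : (P : Subgroup G) ≤ C := fun y hy =>
    mem_centralizer_singleton_iff.mpr (hh.commute_sylow P hy hwP)
  have hnorm : (normalizer ((P : Subgroup G) : Set G)).subgroupOf C =
      normalizer ((P.subtype hPC : Subgroup C) : Set C) := by
    rw [Sylow.coe_subtype]
    exact subgroupOf_normalizer_eq hPC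
  have hP' : ∀ g : C, g ∈ (P.subtype hPC : Subgroup C) ↔ (g : G) ∈ (P : Subgroup G) := fun g => by
    rw [Sylow.coe_subtype, mem_subgroupOf]
  have hle : normalizer ((P.subtype hPC : Subgroup C) : Set C) ≤
      centralizer ((P.subtype hPC : Subgroup C) : Set C) := by
    intro g hg
    rw [← hnorm, mem_subgroupOf] at hg
    have hgP : (g : G) ∈ (P : Subgroup G) := hM ▸ ⟨g.2, hg⟩
    exact mem_centralizer_iff.mpr fun z hz => Subtype.ext (hh.commute_sylow P ((hP' z).mp hz) hgP)
  have hcomp := MonoidHom.ker_transferSylow_isComplement' (P.subtype hPC) hle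
  set K := (MonoidHom.transferSylow (P.subtype hPC) hle).ker with hK
  have hcP : Nat.card (P.subtype hPC : Subgroup C) = 9 := by
    rw [Sylow.coe_subtype, Nat.card_congr (subgroupOfEquivOfLe hPC).toEquiv, hP]
  have hK4 : Nat.card K = 4 := by
    have h1 := hcomp.card_mul_card
    rw [hcP, hC] at h1
    omega
  set U := K.map C.subtype with hUdef
  have hU4 : Nat.card U = 4 := by rw [hUdef, card_map_of_injective C.subtype_injective, hK4]
  have hinv : ∀ u ∈ C, u * u = 1 → u ∈ U := by
    intro u hu hu2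
    refine ⟨⟨u, hu⟩, ?_, rfl⟩
    show (⟨u, hu⟩ : C) ∈ K
    rw [hK, MonoidHom.mem_ker, ← orderOf_eq_one_iff]
    refine Nat.eq_one_of_dvd_coprimes (show Nat.Coprime 9 2 by norm_num) ?_ ?_
    · exact (_root_.orderOf_dvd_natCard _).trans (dvd_of_eq hcP)
    · refine (orderOf_map_dvd _ _).trans (orderOf_dvd_of_pow_eq_one (Subtype.ext ?_))
      rw [sq]; exact hu2
  have hconj : ∀ c ∈ C, ∀ u ∈ U, c * u * c⁻¹ ∈ U := by
    rintro c hc _ ⟨u, hu, rfl⟩
    have hKn : K.Normal := MonoidHom.normal_ker _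
    exact ⟨_, hKn.conj_mem u hu (⟨c, hc⟩ : C), rfl⟩
  refine ⟨U, hU4, map_subtype_le _, fun u hu => ?_, hinv, hconj⟩
  -- the exponent is two
  by_contra hne
  obtain ⟨y, hy, hyw⟩ : ∃ y ∈ (P : Subgroup G), y ∉ zpowers w := by
    by_contra hcon
    push Not at hcon
    have := card_dvd_of_le (H := (P : Subgroup G)) hcon
    rw [hP, Nat.card_zpowers, hw.1] at this
    norm_num at this
  obtain ⟨-, -, -, hexp⟩ := sylow_three hh.card hh.index P
  have hy3 : orderOf y = 3 := orderOf_eq_prime (hexp y hy) (fun h1 => hyw (h1 ▸ one_mem _))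
  have h4 : u ^ 4 = 1 := by
    have h1 := congrArg Subtype.val (pow_card_eq_one' (x := (⟨u, hu⟩ : U)))
    rw [hU4] at h1
    exact h1
  have hord : orderOf u = 4 := by
    refine orderOf_eq_prime_pow (p := 2) (n := 1) ?_ (by norm_num; exact h4)
    rw [pow_one, sq]; exact hne
  have hUz : zpowers u = U :=
    Subgroup.eq_of_le_of_card_ge (zpowers_le.mpr hu) (by rw [hU4, Nat.card_zpowers, hord])
  have hz2 : orderOf (u * u) = 2 := by
    refine orderOf_eq_prime ?_ hne
    rw [sq, ← h4]; simp only [pow_succ, pow_zero, one_mul, mul_assoc]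
  have hzU : u * u ∈ U := mul_mem hu hu
  obtain ⟨i, hi⟩ := mem_zpowers_iff.mp (hUz ▸ hconj y (hPC hy) _ hzU : y * (u * u) * y⁻¹ ∈ zpowers u)
  have hsq : u ^ i * u ^ i = 1 := by
    rw [hi, show y * (u * u) * y⁻¹ * (y * (u * u) * y⁻¹) = y * ((u * u) ^ 2) * y⁻¹ by rw [sq]; group,
      show (u * u) ^ 2 = 1 by rw [← hz2, pow_orderOf_eq_one], mul_one, mul_inv_cancel]
  rw [← zpow_add, ← orderOf_dvd_iff_zpow_eq_one, hord] at hsq
  obtain ⟨j, rfl⟩ : (2 : ℤ) ∣ i := by
    have : (4 : ℤ) ∣ i + i := hsq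
    omega
  have hz22 : (u * u) ^ (2 : ℤ) = 1 := by
    rw [show (2 : ℤ) = ((2 : ℕ) : ℤ) by norm_num, zpow_natCast, ← hz2, pow_orderOf_eq_one]
  rw [show u ^ (2 * j) = (u * u) ^ j by rw [zpow_mul, show (2 : ℤ) = ((2 : ℕ) : ℤ) by norm_num, zpow_natCast, sq],
    show j = j % 2 + 2 * (j / 2) by omega, zpow_add, zpow_mul, hz22, one_zpow, mul_one] at hi
  rcases (show j % 2 = 0 ∨ j % 2 = 1 by omega) with hj | hj <;> rw [hj] at hi
  · rw [zpow_zero] at hi
    apply ne_one_of_orderOf le_rfl hz2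
    calc u * u = y⁻¹ * (y * (u * u) * y⁻¹) * y := by group
      _ = 1 := by rw [← hi]; group
  · rw [zpow_one] at hi
    exact hyw (mem_zpowers_of_commute hh.card hw.1 hy3 (hh.commute_sylow P hwP hy) hz2
      (mem_centralizer_singleton_iff.mp (map_subtype_le _ hzU)) (eq_mul_inv_iff_mul_eq.mp hi))

theorem kernel_commute {w : G} (hw : IsCentral w) {u v : G} (huw : u * w = w * u) (hu : u * u = 1)
    (hvw : v * w = w * v) (hv : v * v = 1) : u * v = v * u := by
  obtain ⟨U, -, -, hexp, hmem, -⟩ := hh.exists_kernel hw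
  have hu' := hmem u (mem_centralizer_singleton_iff.mpr huw) hu
  have hv' := hmem v (mem_centralizer_singleton_iff.mpr hvw) hv
  have h1 := hexp _ (mul_mem hu' hv')
  rw [eq_comm, eq_inv_of_mul_eq_one_right h1 |>.trans (mul_inv_rev u v), inv_eq_of_mul_eq_one_right hu,
    inv_eq_of_mul_eq_one_right hv]


/-- An element fixed point free on the kernel. -/
theorem eq_one_of_commute_kernel {w y u : G} (hw : orderOf w = 3) (hy : orderOf y = 3) (hwy : w * y = y * w)
    (hne : y ∉ zpowers w) (huw : u * w = w * u) (hu : u * u = 1) (huy : u * y = y * u) : u = 1 := by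
  by_contra h1
  exact hne (mem_zpowers_of_commute hh.card hw hy hwy (orderOf_eq_prime (by rw [sq]; exact hu) h1) huw huy)

/-- An involution centralizes only one line of central elements. -/
theorem unique_line {w w' v : G} (hw : IsCentral w) (hw' : orderOf w' = 3) (hv : orderOf v = 2)
    (hwv : v * w = w * v) (hwv' : v * w' = w' * v) : w' ∈ zpowers w := by
  obtain ⟨U, hU, hUC, -, hmem, -⟩ := hh.exists_kernel hw
  have hvv : v * v = 1 := by rw [← sq, ← hv, pow_orderOf_eq_one]
  set H := centralizer ({w} : Set G) ⊓ centralizer ({v} : Set G) with hH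
  have h1 : Nat.card H ∣ 12 := by
    have a := card_dvd_of_le (inf_le_left : H ≤ centralizer ({w} : Set G))
    have b := card_dvd_of_le (inf_le_right : H ≤ centralizer ({v} : Set G))
    rw [hh.card_centralizer hw] at a
    rw [card_centralizer_involution hh.card hv] at b
    exact (Nat.dvd_gcd a b).trans (by norm_num)
  have hUH : U ≤ H := fun u hu => ⟨hUC hu, mem_centralizer_singleton_iff.mpr
    (hh.kernel_commute hw (mem_centralizer_singleton_iff.mp (hUC hu)) (by
      obtain ⟨U', hU', hU'C, hexp', hmem', -⟩ := hh.exists_kernel hw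
      by_contra hne
      have hUU : U' ≤ U := fun z hz => hmem z (hU'C hz) (hexp' z hz)
      rw [← Subgroup.eq_of_le_of_card_ge hUU (by rw [hU, hU'])] at hu
      exact hne (hexp' u hu)) hwv hvv)⟩
  have h4 := card_dvd_of_le hUH
  rw [hU] at h4
  have h3 : 3 ∣ Nat.card H := by
    have := orderOf_dvd_natCard H (show w ∈ H from
      ⟨mem_centralizer_singleton_iff.mpr rfl, mem_centralizer_singleton_iff.mpr hwv.symm⟩)
    rwa [hw.1] at this
  have h12 : Nat.card H = 12 :=
    Nat.dvd_antisymm h1 ((show Nat.Coprime 4 3 by norm_num).mul_dvd_of_dvd_of_dvd h4 h3)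
  set Cv := centralizer ({v} : Set G) with hCv
  have hidx : (H.subgroupOf Cv).index = 2 := by
    have h5 := (H.subgroupOf Cv).card_mul_index
    rw [Nat.card_congr (subgroupOfEquivOfLe inf_le_right).toEquiv, h12,
      card_centralizer_involution hh.card hv] at h5
    omega
  have hw'C : w' ∈ Cv := mem_centralizer_singleton_iff.mpr hwv'.symm
  have h6 := mul_self_mem_of_index_two hidx ((⟨w', hw'C⟩ : Cv) * ⟨w', hw'C⟩)
  rw [mem_subgroupOf] at h6
  have h33 : w' ^ 3 = 1 := by rw [← hw', pow_orderOf_eq_one]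
  have h7 : w' ∈ H := by
    have e : w' * w' * (w' * w') = w' := by
      calc w' * w' * (w' * w') = w' ^ 3 * w' := by simp only [pow_succ, pow_zero, one_mul, mul_assoc]
        _ = w' := by rw [h33, one_mul]
    rw [← e]; exact h6
  exact mem_zpowers_of_commute hh.card hw.1 hw'
    (mem_centralizer_singleton_iff.mp h7.1).symm hv hwv hwv'

/-- Every involution centralizes a central element. -/
theorem exists_central {v : G} (hv : orderOf v = 2) : ∃ w, IsCentral w ∧ v * w = w * v := by
  obtain ⟨⟨w, hwC⟩, hw⟩ := exists_prime_orderOf_dvd_card' (G := centralizer ({v} : Set G)) 3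
    (by rw [card_centralizer_involution hh.card hv]; norm_num)
  rw [Subgroup.orderOf_mk] at hw
  exact ⟨w, ⟨hw, v, hv, (mem_centralizer_singleton_iff.mp hwC).symm⟩,
    (mem_centralizer_singleton_iff.mp hwC).symm⟩

/-- An involution inverting a Sylow subgroup. -/
theorem exists_inverter (P : Sylow 3 G) :
    ∃ t : G, orderOf t = 2 ∧ ∀ y ∈ (P : Subgroup G), t * y * t = y⁻¹ := by
  obtain ⟨-, hN, -, hexp⟩ := sylow_three hh.card hh.index P
  obtain ⟨⟨t, htN⟩, ht⟩ := exists_prime_orderOf_dvd_card' (G := normalizer ((P : Subgroup G) : Set G)) 2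
    (by rw [hN]; norm_num)
  rw [Subgroup.orderOf_mk] at ht
  have htt : t * t = 1 := by rw [← sq, ← ht, pow_orderOf_eq_one]
  have hti : t⁻¹ = t := inv_eq_of_mul_eq_one_right htt
  refine ⟨t, ht, fun y hy => ?_⟩
  have hy' : t * y * t ∈ (P : Subgroup G) := by
    have := (mem_normalizer_iff.mp htN y).mp hy
    rwa [hti] at this
  set z := y * (t * y * t) with hz
  have hzP : z ∈ (P : Subgroup G) := mul_mem hy hy'
  have hzt : t * z = z * t := by
    calc t * z = t * ((t * y * t) * y) := by rw [hz, hh.commute_sylow P hy' hy]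
      _ = (t * t) * y * t * y := by simp only [mul_assoc]
      _ = y * t * y * (t * t) := by rw [htt, one_mul, mul_one]
      _ = z * t := by simp only [hz, mul_assoc]
  by_contra hne
  have hz1 : z ≠ 1 := fun h1 => hne (eq_inv_of_mul_eq_one_right h1)
  have hz3 : orderOf z = 3 := orderOf_eq_prime (hexp z hzP) hz1
  obtain ⟨-, hM⟩ := (show IsCentral z from ⟨hz3, t, ht, hzt⟩).facts hh.card hh.index P hzP
  have htP : t ∈ (P : Subgroup G) := hM ▸ ⟨mem_centralizer_singleton_iff.mpr hzt, htN⟩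
  have := hexp t htP
  rw [show (3 : ℕ) = 2 + 1 from rfl, pow_succ, sq, htt, one_mul] at this
  exact ne_one_of_orderOf le_rfl ht this

/-- A second line of central elements in a Sylow subgroup. -/
theorem exists_partner {w : G} (hw : IsCentral w) (P : Sylow 3 G) (hwP : w ∈ (P : Subgroup G)) :
    ∃ d, IsCentral d ∧ d ∈ (P : Subgroup G) ∧ d ∉ zpowers w := by
  classical
  obtain ⟨hP, hN, -, -⟩ := sylow_three hh.card hh.index P
  obtain ⟨-, hM⟩ := hw.facts hh.card hh.index P hwP
  set N := normalizer ((P : Subgroup G) : Set G) with hNdef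
  by_contra hcon
  push Not at hcon
  have hline : ∀ g : N, (g : G) * w * (g : G)⁻¹ = w ∨ (g : G) * w * (g : G)⁻¹ = w⁻¹ := by
    intro g
    rcases eq_or_inv_of_mem_zpowers hw.1 (hcon _ (hw.conj g) ((mem_normalizer_iff.mp g.2 w).mp hwP)) with h | h | h
    · exact absurd h (ne_one_of_orderOf (by norm_num) (hw.conj g).1)
    · exact Or.inl h
    · exact Or.inr h
  have hsame : ∀ g g' : N, (g : G) * w * (g : G)⁻¹ = (g' : G) * w * (g' : G)⁻¹ →
      (g : G)⁻¹ * g' ∈ (P : Subgroup G) := by
    intro g g' hgg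
    rw [← hM]
    refine ⟨mem_centralizer_singleton_iff.mpr ?_, N.mul_mem (N.inv_mem g.2) g'.2⟩
    calc (g : G)⁻¹ * g' * w = (g : G)⁻¹ * ((g' : G) * w * (g' : G)⁻¹) * g' := by group
      _ = (g : G)⁻¹ * ((g : G) * w * (g : G)⁻¹) * g' := by rw [hgg]
      _ = w * ((g : G)⁻¹ * g') := by group
  obtain ⟨g0, hg0⟩ : ∃ g0 : N, ∀ g : N, (g : G) * w * (g : G)⁻¹ ≠ w →
      (g : G) * w * (g : G)⁻¹ = (g0 : G) * w * (g0 : G)⁻¹ := by
    by_cases hx : ∃ g0 : N, (g0 : G) * w * (g0 : G)⁻¹ = w⁻¹
    · obtain ⟨g0, hg⟩ := hx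
      exact ⟨g0, fun g hne => ((hline g).resolve_left hne).trans hg.symm⟩
    · exact ⟨1, fun g hne => absurd ⟨g, (hline g).resolve_left hne⟩ hx⟩
  let f : N → Bool × (P : Subgroup G) := fun g =>
    if hg : (g : G) * w * (g : G)⁻¹ = w then (true, ⟨_, hsame 1 g (by simpa using hg.symm)⟩)
    else (false, ⟨_, hsame g0 g (hg0 g hg).symm⟩)
  have hf : Function.Injective f := by
    intro a b hab
    simp only [f] at hab
    split_ifs at hab with h1 h2 <;> simp only [Prod.mk.injEq, Subtype.mk.injEq, Bool.false_eq_true, Bool.true_eq_false, false_and] at hab <;>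
      exact Subtype.ext (mul_left_cancel hab.2)
  have hcard := Nat.card_le_card_of_injective f hf
  rw [hN, Nat.card_prod, hP, Nat.card_eq_fintype_card, Fintype.card_bool] at hcard
  omega

/-- All involutions are conjugate. -/
theorem isConj_involution {v v' : G} (hv : orderOf v = 2) (hv' : orderOf v' = 2) : IsConj v v' := by
  classical
  obtain ⟨w, hw, -⟩ := hh.exists_central hv
  obtain ⟨P, hwP⟩ := exists_sylow_mem hw.1
  obtain ⟨t, ht, hinv⟩ := hh.exists_inverter P
  obtain ⟨U, hU, hUC, hexp, hmem, hconj⟩ := hh.exists_kernel hw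
  obtain ⟨d, hd, hdP, hdne⟩ := hh.exists_partner hw P hwP
  have htt : t * t = 1 := by rw [← sq, ← ht, pow_orderOf_eq_one]
  have hti : t⁻¹ = t := inv_eq_of_mul_eq_one_right htt
  have hdC : d ∈ centralizer ({w} : Set G) :=
    mem_centralizer_singleton_iff.mpr (hh.commute_sylow P hdP hwP)
  have htw : t * w⁻¹ * t = w := by
    conv_rhs => rw [← inv_inv w, ← hinv w hwP]
    rw [mul_inv_rev, mul_inv_rev, hti, mul_assoc]
  have htU : ∀ u ∈ U, t * u * t ∈ U := by
    intro u hu
    refine hmem _ (mem_centralizer_singleton_iff.mpr ?_) ?_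
    · have h1 : u * w⁻¹ = w⁻¹ * u :=
        ((show Commute u w from mem_centralizer_singleton_iff.mp (hUC hu)).inv_right).eq
      calc t * u * t * w = t * u * (t * w * t) * t := by simp only [mul_assoc, htt, mul_one]
        _ = t * (u * w⁻¹) * t := by rw [hinv w hwP]; simp only [mul_assoc]
        _ = t * w⁻¹ * t * (t * u * t) := by
          rw [h1]; simp only [mul_assoc]; rw [← mul_assoc t t, htt, one_mul]
        _ = w * (t * u * t) := by rw [htw]
    · calc t * u * t * (t * u * t) = t * (u * (t * t) * u) * t := by simp only [mul_assoc]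
        _ = 1 := by rw [htt, mul_one, hexp u hu, mul_one, htt]
  obtain ⟨u, hu, hune⟩ : ∃ u ∈ U, t * u * t ≠ u := by
    by_contra hcon
    push Not at hcon
    obtain ⟨⟨u, hu⟩, hu1⟩ : ∃ u : U, u ≠ 1 := by
      haveI : Nontrivial U := Finite.one_lt_card_iff_nontrivial.mp (by rw [hU]; norm_num)
      exact exists_ne 1
    have hu1' : u ≠ 1 := fun h => hu1 (Subtype.ext h)
    have h1 := hcon _ (hconj d hdC u hu)
    have h2 : t * (d * u * d⁻¹) * t = d⁻¹ * u * d := by
      calc t * (d * u * d⁻¹) * t = (t * d * t) * (t * u * t) * (t * d * t)⁻¹ := by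
            rw [mul_inv_rev, mul_inv_rev, hti]
            simp only [mul_assoc]; rw [← mul_assoc t t, htt, one_mul, ← mul_assoc t t, htt, one_mul]
        _ = _ := by rw [hinv d hdP, hcon u hu, inv_inv]
    rw [h2] at h1
    have h3 : (d * d) * u = u * (d * d) := by
      calc d * d * u = d * (d * u * d⁻¹) * d := by group
        _ = d * (d⁻¹ * u * d) * d := by rw [← h1]
        _ = _ := by group
    have hd3 : d ^ 3 = 1 := by rw [← hd.1, pow_orderOf_eq_one]
    have h4 : d * u = u * d := by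
      have h5 := ((show Commute (d * d) u from h3).pow_left 2).eq
      rwa [show (d * d) ^ 2 = d by
        calc (d * d) ^ 2 = d ^ 3 * d := by simp only [pow_succ, pow_zero, one_mul, mul_assoc]
          _ = d := by rw [hd3, one_mul]] at h5
    exact hu1' (hh.eq_one_of_commute_kernel hw.1 hd.1 (hh.commute_sylow P hwP hdP) hdne
      (mem_centralizer_singleton_iff.mp (hUC hu)) (hexp u hu) h4.symm)
  have hq2U : t * u * (t * u) ∈ U := by rw [← mul_assoc]; exact mul_mem (htU u hu) hu
  have hq2 : t * u * (t * u) ≠ 1 := by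
    intro h1
    refine hune ?_
    rw [← mul_assoc] at h1
    rw [eq_inv_of_mul_eq_one_left h1, inv_eq_of_mul_eq_one_right (hexp u hu)]
  have hord : orderOf (t * u) = 4 := by
    refine orderOf_eq_prime_pow (p := 2) (n := 1) ?_ ?_
    · rw [pow_one, sq]; exact hq2
    · rw [show (2 : ℕ) ^ (1 + 1) = 2 + 2 from rfl, pow_add, sq]; exact hexp _ hq2U
  have hidx : (zpowers (t * u)).index = 2 ^ (0 + 1) * 315 := by
    have h1 := (zpowers (t * u)).card_mul_index
    rw [Nat.card_zpowers, hord, hh.card] at h1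
    omega
  have key : ∀ x : G, orderOf x = 2 → IsConj x (t * u * (t * u)) := by
    intro x hx
    by_contra hne
    have hxx : x ^ 2 ^ (0 + 1) = 1 := by rw [zero_add, pow_one, ← hx, pow_orderOf_eq_one]
    obtain ⟨f, hf⟩ := DihedralTransfer.exists_hom_neg_one (zpowers (t * u)) (m := 0) (k := 315) hxx
      (fun q hq => hne (by
        rw [pow_zero, pow_one] at hq
        obtain ⟨i, hi⟩ := mem_zpowers_iff.mp hq
        have h4 : (t * u) ^ (4 : ℤ) = 1 := by
          rw [show (4 : ℤ) = ((4 : ℕ) : ℤ) by norm_num, zpow_natCast, ← hord, pow_orderOf_eq_one]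
        have hord2 : orderOf ((t * u) ^ i) = 2 := by
          rw [hi, show q⁻¹ * x * q = q⁻¹ * x * q⁻¹⁻¹ by rw [inv_inv], orderOf_conj, hx]
        have hsq : (t * u) ^ (i + i) = 1 := by
          rw [zpow_add, ← sq, ← hord2, pow_orderOf_eq_one]
        rw [← orderOf_dvd_iff_zpow_eq_one, hord] at hsq
        obtain ⟨j, rfl⟩ : (2 : ℤ) ∣ i := by
          have : (4 : ℤ) ∣ i + i := hsq
          omega
        rw [show (2 : ℤ) * j = 2 * (j % 2) + 4 * (j / 2) by omega, zpow_add, zpow_mul _ 4, h4,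
          one_zpow, mul_one] at hi hord2
        rcases (show j % 2 = 0 ∨ j % 2 = 1 by omega) with hj | hj <;> rw [hj] at hi hord2
        · rw [mul_zero, zpow_zero, orderOf_one] at hord2
          norm_num at hord2
        · rw [mul_one, zpow_two] at hi
          exact isConj_iff.mpr ⟨q⁻¹, by rw [hi]; group⟩)) (by decide) hidx
    rw [hom_commGroup_eq_one (not_comm hh.card) f x] at hf
    exact absurd hf (by decide)
  exact (key v hv).trans (key v' hv').symm

/-- The order of the kernel element is fixed by the line. -/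
theorem isConj_of_central {w w' : G} (hw : IsCentral w) (hw' : IsCentral w') : IsConj w w' := by
  obtain ⟨u, hu, huw⟩ := hw.2
  obtain ⟨u', hu', huw'⟩ := hw'.2
  obtain ⟨g, hg⟩ := isConj_iff.mp (hh.isConj_involution hu hu')
  have h1 : g * w * g⁻¹ ∈ zpowers w' := by
    refine hh.unique_line hw' (hw.conj g).1 hu' huw' ?_
    rw [← hg]; exact conj_commute g huw
  obtain ⟨P, hP⟩ := exists_sylow_mem hw'.1
  obtain ⟨t, ht, hinv⟩ := hh.exists_inverter P
  have hti : t⁻¹ = t := inv_eq_of_mul_eq_one_right (by rw [← sq, ← ht, pow_orderOf_eq_one])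
  rcases eq_or_inv_of_mem_zpowers hw'.1 h1 with h | h | h
  · exact absurd h (ne_one_of_orderOf (by norm_num) (hw.conj g).1)
  · exact isConj_iff.mpr ⟨g, h⟩
  · refine (isConj_iff.mpr ⟨g, h⟩).trans (isConj_iff.mpr ⟨t, ?_⟩)
    rw [hti]
    calc t * w'⁻¹ * t = (t * w' * t)⁻¹ := by rw [mul_inv_rev, mul_inv_rev, hti, mul_assoc]
      _ = w' := by rw [hinv w' hP, inv_inv]

/-- Pairwise commuting central elements span at most two lines. -/
theorem triangle {c d e : G} (hc : IsCentral c) (hd : IsCentral d) (he : IsCentral e)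
    (hcd : c * d = d * c) (hdc : d ∉ zpowers c) (hec : e * c = c * e) (hed : e * d = d * e) :
    e ∈ zpowers c ∨ e ∈ zpowers d := by
  classical
  by_contra hcon
  rw [not_or] at hcon
  obtain ⟨H, hH, hcH, hdH, hle⟩ := exists_plane hc.1 hd.1 hcd hdc
  obtain ⟨P, hPH⟩ := (IsPGroup.of_card (p := 3) (n := 2) (G := H) (by rw [hH]; norm_num)).exists_le_sylow
  obtain ⟨hP, hN, hCP, -⟩ := sylow_three hh.card hh.index P
  have hHP : H = (P : Subgroup G) := Subgroup.eq_of_le_of_card_ge hPH (by rw [hP, hH])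
  have heP : e ∈ (P : Subgroup G) := by
    rw [← hCP, mem_centralizer_iff]
    intro z hz
    have : z ∈ centralizer ({e} : Set G) := hle _ (mem_centralizer_singleton_iff.mpr hec.symm)
      (mem_centralizer_singleton_iff.mpr hed.symm) (hHP ▸ hz)
    exact mem_centralizer_singleton_iff.mp this
  have hcP : c ∈ (P : Subgroup G) := hPH hcH
  have hdP : d ∈ (P : Subgroup G) := hPH hdH
  haveI : IsMulCommutative (P : Subgroup G) :=
    IsPGroup.isMulCommutative_of_card_eq_prime_sq (p := 3) (by rw [hP]; norm_num)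
  obtain ⟨-, hM⟩ := hc.facts hh.card hh.index P hcP
  set N := normalizer ((P : Subgroup G) : Set G) with hNdef
  let S : Finset G := {c, c⁻¹, d, d⁻¹, e, e⁻¹}
  have hne : ∀ {a b : G}, orderOf a = 3 → b ∉ zpowers a → a ≠ b ∧ a⁻¹ ≠ b ∧ a ≠ b⁻¹ ∧ a⁻¹ ≠ b⁻¹ := by
    intro a b _ hb
    refine ⟨fun h => hb (h ▸ mem_zpowers a), fun h => hb (h ▸ inv_mem (mem_zpowers a)),
      fun h => hb ?_, fun h => hb (inv_injective h ▸ mem_zpowers a)⟩
    rw [show b = a⁻¹ by rw [h, inv_inv]]
    exact inv_mem (mem_zpowers a)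
  have hself : ∀ {a : G}, orderOf a = 3 → a ≠ a⁻¹ := by
    intro a ha h
    have := orderOf_dvd_of_pow_eq_one (show a ^ 2 = 1 by rw [sq]; exact inv_eq_iff_mul_eq_one.mp h.symm)
    rw [ha] at this
    norm_num at this
  have hS : S.card = 6 := by
    obtain ⟨a1, a2, a3, a4⟩ := hne hc.1 hdc
    obtain ⟨b1, b2, b3, b4⟩ := hne hc.1 hcon.1
    obtain ⟨e1, e2, e3, e4⟩ := hne hd.1 hcon.2
    simp [S, hself hc.1, hself hd.1, hself he.1, a1, a2, a3, a4, b1, b2, b3, b4, e1, e2, e3, e4]
  have hmemS : ∀ z ∈ S, IsCentral z ∧ z ∈ (P : Subgroup G) := by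
    intro z hz
    simp only [S, Finset.mem_insert, Finset.mem_singleton] at hz
    rcases hz with rfl | rfl | rfl | rfl | rfl | rfl
    exacts [⟨hc, hcP⟩, ⟨hc.inv, inv_mem hcP⟩, ⟨hd, hdP⟩, ⟨hd.inv, inv_mem hdP⟩, ⟨he, heP⟩,
      ⟨he.inv, inv_mem heP⟩]
  haveI := Fintype.ofFinite N
  have hsub : S ⊆ Finset.univ.image (fun g : N => (g : G) * c * (g : G)⁻¹) := by
    intro z hz
    obtain ⟨hzc, hzP⟩ := hmemS z hz
    obtain ⟨g, hg⟩ := isConj_iff.mp (hh.isConj_of_central hc hzc)
    obtain ⟨n, hn, hnz⟩ := P.conj_eq_normalizer_conj_of_mem c g⁻¹ hcP (by rw [inv_inv, hg]; exact hzP)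
    rw [Finset.mem_image]
    exact ⟨⟨n⁻¹, inv_mem hn⟩, Finset.mem_univ _, by rw [← hg]; simp only [inv_inv] at hnz ⊢; exact hnz.symm⟩
  have hfib := Finset.mul_card_image_le_card (f := fun g : N => (g : G) * c * (g : G)⁻¹) Finset.univ 9 ?_
  · have := Finset.card_le_card hsub
    rw [hS] at this
    rw [Finset.card_univ, ← Nat.card_eq_fintype_card, hN] at hfib
    omega
  intro b hb
  obtain ⟨g, -, rfl⟩ := Finset.mem_image.mp hb
  haveI := Fintype.ofFinite (P : Subgroup G)
  rw [← hP, Nat.card_eq_fintype_card, ← Finset.card_univ]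
  refine Finset.card_le_card_of_injOn (fun z => (⟨(g : G) * z, mul_mem g.2 (le_normalizer z.2)⟩ : N)) ?_ ?_
  · intro z _
    rw [Finset.mem_coe, Finset.mem_filter]
    refine ⟨Finset.mem_univ _, ?_⟩
    calc (g : G) * z * c * ((g : G) * z)⁻¹ = (g : G) * ((z : G) * c) * (z : G)⁻¹ * (g : G)⁻¹ := by group
      _ = _ := by rw [hh.commute_sylow P z.2 hcP]; group
  · intro a _ b _ hab
    exact Subtype.ext (mul_left_cancel (congrArg Subtype.val hab : (g : G) * a = g * b))

end Hyp

end Cfsg.Agent.Lib.SmallGroups.Order2520
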