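/-
Involutions inverting a line of central elements in a simple group of order 2520.
-/
import Mathlib
import Cfsg.Agent.Lib.SmallGroups.Order2520.Lines

set_option autoImplicit false
set_option linter.unusedSectionVars false
set_option linter.style.haveILetI false

namespace Cfsg.Agent.Lib.SmallGroups.Order2520

open Subgroup
open scoped Pointwise

universe u

section General

variable {G : Type u} [Group G]

theorem sq_one_of_orderOf {t : G} (ht : orderOf t = 2) : t * t = 1 := by
  rw [← sq, ← ht, pow_orderOf_eq_one]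

theorem inv_of_orderOf {t : G} (ht : orderOf t = 2) : t⁻¹ = t :=
  inv_eq_of_mul_eq_one_right (sq_one_of_orderOf ht)

theorem conj_inv_of_invol {t w : G} (ht : t * t = 1) (h : t * w * t = w⁻¹) : t * w⁻¹ * t = w := by
  have hti : t⁻¹ = t := inv_eq_of_mul_eq_one_right ht
  conv_rhs => rw [← inv_inv w, ← h]
  rw [mul_inv_rev, mul_inv_rev, hti, mul_assoc]

end General

variable {G : Type u} [Group G] [Fintype G] [IsSimpleGroup G] [Fact (Nat.Prime 2)] [Fact (Nat.Prime 3)]

/-- Adjacent central elements. -/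
def Adj (w d : G) : Prop := IsCentral w ∧ IsCentral d ∧ w * d = d * w ∧ d ∉ zpowers w

theorem Adj.symm {w d : G} (h : Adj w d) : Adj d w :=
  ⟨h.2.1, h.1, h.2.2.1.symm, fun hm => h.2.2.2
    (mem_zpowers_symm h.2.1.1 hm (ne_one_of_orderOf (by norm_num) h.1.1))⟩

namespace Hyp

variable (hh : Hyp G)

include hh

/-- The centralizer is the product of its kernel and a Sylow subgroup. -/
theorem exists_mul {w : G} (hw : IsCentral w) {P : Sylow 3 G} (hwP : w ∈ (P : Subgroup G)) {U : Subgroup G}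
    (hU : Nat.card U = 4) (hUC : U ≤ centralizer ({w} : Set G)) {c : G}
    (hc : c ∈ centralizer ({w} : Set G)) : ∃ u ∈ U, ∃ p ∈ (P : Subgroup G), c = u * p := by
  classical
  obtain ⟨hP, -, -, -⟩ := sylow_three hh.card hh.index P
  let f : U × (P : Subgroup G) → centralizer ({w} : Set G) := fun a =>
    ⟨(a.1 : G) * a.2, mul_mem (hUC a.1.2)
      (mem_centralizer_singleton_iff.mpr (hh.commute_sylow P a.2.2 hwP))⟩
  have hf : Function.Injective f := by
    rintro ⟨a, b⟩ ⟨a', b'⟩ h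
    have h1 : (a : G) * b = a' * b' := congrArg Subtype.val h
    have h2 : (a' : G)⁻¹ * a = b' * (b : G)⁻¹ := by
      rw [eq_mul_inv_iff_mul_eq, mul_assoc, h1, inv_mul_cancel_left]
    have h3 : orderOf ((a' : G)⁻¹ * a) = 1 := by
      refine Nat.eq_one_of_dvd_coprimes (show Nat.Coprime 4 9 by norm_num)
        (hU ▸ orderOf_dvd_natCard U (mul_mem (inv_mem a'.2) a.2)) ?_
      rw [h2, ← hP]
      exact orderOf_dvd_natCard _ ((P : Subgroup G).mul_mem b'.2 ((P : Subgroup G).inv_mem b.2))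
    rw [orderOf_eq_one_iff] at h3
    obtain rfl : a' = a := Subtype.ext (inv_mul_eq_one.mp h3)
    obtain rfl : b = b' := Subtype.ext (mul_left_cancel h1)
    rfl
  have hb : Function.Bijective f := (Nat.bijective_iff_injective_and_card f).mpr ⟨hf, by
    rw [Nat.card_prod, hU, hP, hh.card_centralizer hw]⟩
  obtain ⟨⟨a, b⟩, hab⟩ := hb.2 ⟨c, hc⟩
  exact ⟨a, a.2, b, b.2, (congrArg Subtype.val hab).symm⟩

/-- The kernel together with its properties. -/
theorem conj_mem_kernel {w u t : G} (hu : u * w = w * u) (ht : t * t = 1)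
    (htw : t * w * t = w⁻¹) (hu2 : u * u = 1) :
    t * u * t * w = w * (t * u * t) ∧ t * u * t * (t * u * t) = 1 := by
  constructor
  · have h1 : u * w⁻¹ = w⁻¹ * u := ((show Commute u w from hu).inv_right).eq
    calc t * u * t * w = t * u * (t * w * t) * t := by simp only [mul_assoc, ht, mul_one]
      _ = t * (u * w⁻¹) * t := by rw [htw]; simp only [mul_assoc]
      _ = t * w⁻¹ * t * (t * u * t) := by
        rw [h1]; simp only [mul_assoc]; rw [← mul_assoc t t, ht, one_mul]
      _ = w * (t * u * t) := by rw [conj_inv_of_invol ht htw]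
  · calc t * u * t * (t * u * t) = t * (u * (t * t) * u) * t := by simp only [mul_assoc]
      _ = 1 := by rw [ht, mul_one, hu2, mul_one, ht]

/-- An inverting involution which normalizes an adjacent line inverts it. -/
theorem inverts_of_normalizes {w d t : G} (hwd : Adj w d) (ht : orderOf t = 2) (htw : t * w * t = w⁻¹)
    (htd : t * d * t ∈ zpowers d) : t * d * t = d⁻¹ := by
  obtain ⟨hw, hd, hc, hne⟩ := hwd
  have htt := sq_one_of_orderOf ht
  rcases eq_or_inv_of_mem_zpowers hd.1 htd with h | h | h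
  · exfalso
    refine ne_one_of_orderOf (by norm_num) hd.1 ?_
    calc d = (t * t) * d * (t * t) := by rw [htt, one_mul, mul_one]
      _ = t * (t * d * t) * t := by simp only [mul_assoc]
      _ = 1 := by rw [h, mul_one, htt]
  · exfalso
    have h1 : t * d = d * t := by
      calc t * d = t * d * (t * t) := by rw [htt, mul_one]
        _ = t * d * t * t := by simp only [mul_assoc]
        _ = d * t := by rw [h]
    have hw4 : w * w * (w * w) = 1 := by
      have h2 : w * t * w⁻¹ * d = d * (w * t * w⁻¹) := by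
        have h3 : w⁻¹ * d = d * w⁻¹ := ((show Commute w d from hc).inv_left).eq
        calc w * t * w⁻¹ * d = w * t * (d * w⁻¹) := by rw [mul_assoc _ w⁻¹ d, h3]
          _ = w * (d * t) * w⁻¹ := by rw [← h1]; simp only [mul_assoc]
          _ = (d * w) * t * w⁻¹ := by rw [← hc]; simp only [mul_assoc]
          _ = _ := by simp only [mul_assoc]
      have h4 := hh.kernel_commute hd h1 htt h2 (by
        calc w * t * w⁻¹ * (w * t * w⁻¹) = w * (t * t) * w⁻¹ := by group
          _ = 1 := by rw [htt]; group)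
      have h5 : (t * w * t) * w⁻¹ = w * (t * w⁻¹ * t) := by
        simpa only [mul_assoc] using h4
      rw [htw, conj_inv_of_invol htt htw] at h5
      calc w * w * (w * w) = w * w * (w⁻¹ * w⁻¹) := by rw [h5]
        _ = 1 := by group
    have := orderOf_dvd_of_pow_eq_one (show w ^ 4 = 1 by
      rw [show (4 : ℕ) = 2 + 2 from rfl, pow_add, sq]; exact hw4)
    rw [hw.1] at this
    norm_num at this
  · exact h

/-- The fixed element of the kernel. -/
theorem exists_fixed {w d t : G} (hwd : Adj w d) (ht : t * t = 1) (htw : t * w * t = w⁻¹)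
    (htd : t * d * t = d⁻¹) :
    ∃ u : G, u ≠ 1 ∧ u * w = w * u ∧ u * u = 1 ∧ t * u * t = u ∧
      ∀ v : G, v * w = w * v → v * v = 1 → t * v * t = v → v = 1 ∨ v = u := by
  classical
  obtain ⟨hw, hd, hc, hne⟩ := hwd
  obtain ⟨U, hU, hUC, hexp, hmem, hconj⟩ := hh.exists_kernel hw
  have hcomm : ∀ {u : G}, u ∈ U → u * w = w * u := fun hu => mem_centralizer_singleton_iff.mp (hUC hu)
  have hUmem : ∀ {u : G}, u ∈ U → t * u * t ∈ U := fun {u} hu => by
    obtain ⟨h1, h2⟩ := hh.conj_mem_kernel (hcomm hu) ht htw (hexp u hu)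
    exact hmem _ (mem_centralizer_singleton_iff.mpr h1) h2
  have hback : ∀ u : G, t * (t * u * t) * t = u := fun u => by
    calc t * (t * u * t) * t = (t * t) * u * (t * t) := by simp only [mul_assoc]
      _ = u := by rw [ht, one_mul, mul_one]
  let σ : Equiv.Perm {z : U // z ≠ 1} :=
    Function.Involutive.toPerm (fun z => ⟨⟨t * (z.1 : G) * t, hUmem z.1.2⟩, fun hz => z.2 (Subtype.ext (by
      have h1 : t * (z.1 : G) * t = 1 := congrArg Subtype.val hz
      rw [← hback (z.1 : G), h1, mul_one, ht]; rfl))⟩) (fun z => Subtype.ext (Subtype.ext (hback _)))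
  haveI := Fintype.ofFinite U
  obtain ⟨⟨⟨u, huU⟩, hu1⟩, hfix⟩ := Equiv.Perm.exists_fixed_point_of_prime (p := 2) (n := 1) (σ := σ)
    (by
      rw [Fintype.card_subtype_compl, Fintype.card_subtype_eq, ← Nat.card_eq_fintype_card, hU]
      norm_num)
    (by rw [pow_one, sq]; exact Equiv.ext fun z => Subtype.ext (Subtype.ext (hback _)))
  have hfix' : t * u * t = u := congrArg (fun z : {z : U // z ≠ 1} => (z.1 : G)) hfix
  have hu1' : u ≠ 1 := fun h => hu1 (Subtype.ext h)
  refine ⟨u, hu1', hcomm huU, hexp u huU, hfix', fun v hv hv2 hvf => ?_⟩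
  by_contra hcon
  rw [not_or] at hcon
  have hvU : v ∈ U := hmem v (mem_centralizer_singleton_iff.mpr hv) hv2
  -- all of the kernel is fixed
  have hall : ∀ z ∈ U, t * z * t = z := by
    intro z hz
    have huv : (⟨u, huU⟩ : U) * ⟨v, hvU⟩ ≠ 1 := fun h => hcon.2 (by
      have h1 : u * v = 1 := congrArg Subtype.val h
      rw [← inv_eq_of_mul_eq_one_right h1, inv_eq_of_mul_eq_one_right (hexp u huU)])
    have hset : (Finset.univ : Finset U) = {1, ⟨u, huU⟩, ⟨v, hvU⟩, ⟨u, huU⟩ * ⟨v, hvU⟩} := by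
      refine (Finset.eq_univ_of_card _ ?_).symm
      have e1 : (1 : U) ≠ ⟨u, huU⟩ := fun h => hu1' (congrArg Subtype.val h).symm
      have e2 : (1 : U) ≠ ⟨v, hvU⟩ := fun h => hcon.1 (congrArg Subtype.val h).symm
      have e3 : (⟨u, huU⟩ : U) ≠ ⟨v, hvU⟩ := fun h => hcon.2 (congrArg Subtype.val h).symm
      have e4 : (⟨u, huU⟩ : U) ≠ ⟨u, huU⟩ * ⟨v, hvU⟩ := fun h => e2 (mul_left_cancel (by rwa [mul_one]))
      have e5 : (⟨v, hvU⟩ : U) ≠ ⟨u, huU⟩ * ⟨v, hvU⟩ := fun h => e1 (mul_right_cancel (by rwa [one_mul]))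
      rw [← Nat.card_eq_fintype_card, hU,
        Finset.card_insert_of_notMem (by simp only [Finset.mem_insert, Finset.mem_singleton, not_or]; exact ⟨e1, e2, huv.symm⟩),
        Finset.card_insert_of_notMem (by simp only [Finset.mem_insert, Finset.mem_singleton, not_or]; exact ⟨e3, e4⟩),
        Finset.card_insert_of_notMem (by simp only [Finset.mem_singleton]; exact e5),
        Finset.card_singleton]
    have hz' : (⟨z, hz⟩ : U) ∈ ({1, ⟨u, huU⟩, ⟨v, hvU⟩, ⟨u, huU⟩ * ⟨v, hvU⟩} : Finset U) :=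
      hset ▸ Finset.mem_univ _
    simp only [Finset.mem_insert, Finset.mem_singleton, Subtype.ext_iff, OneMemClass.coe_one,
      Subgroup.coe_mul] at hz'
    rcases hz' with rfl | rfl | rfl | rfl
    · rw [mul_one, ht]
    · exact hfix'
    · exact hvf
    · calc t * (u * v) * t = (t * u * t) * (t * v * t) := by
            simp only [mul_assoc]; rw [← mul_assoc t t, ht, one_mul]
        _ = _ := by rw [hfix', hvf]
  have hdC : d ∈ centralizer ({w} : Set G) := mem_centralizer_singleton_iff.mpr hc.symm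
  have h1 := hall _ (hconj d hdC u huU)
  have h2 : t * (d * u * d⁻¹) * t = d⁻¹ * u * d := by
    calc t * (d * u * d⁻¹) * t = (t * d * t) * (t * u * t) * (t * d * t)⁻¹ := by
          rw [mul_inv_rev, mul_inv_rev, inv_eq_of_mul_eq_one_right ht]
          simp only [mul_assoc]; rw [← mul_assoc t t, ht, one_mul, ← mul_assoc t t, ht, one_mul]
      _ = _ := by rw [htd, hfix', inv_inv]
  rw [h2] at h1
  have h3 : (d * d) * u = u * (d * d) := by
    calc d * d * u = d * (d * u * d⁻¹) * d := by group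
      _ = d * (d⁻¹ * u * d) * d := by rw [← h1]
      _ = _ := by group
  have h4 : d * u = u * d := by
    have h5 := ((show Commute (d * d) u from h3).pow_left 2).eq
    rwa [show (d * d) ^ 2 = d by
      calc (d * d) ^ 2 = d ^ 3 * d := by simp only [pow_succ, pow_zero, one_mul, mul_assoc]
        _ = d := by rw [← hd.1, pow_orderOf_eq_one, one_mul]] at h5
  exact hu1' (hh.eq_one_of_commute_kernel hw.1 hd.1 hc hne (hcomm huU) (hexp u huU) h4.symm)

/-- All involutions inverting `w` are conjugate in the centralizer. -/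
theorem exists_conj {w t s : G} {P : Sylow 3 G} (hw : IsCentral w) (hwP : w ∈ (P : Subgroup G))
    (ht : orderOf t = 2) (hinv : ∀ y ∈ (P : Subgroup G), t * y * t = y⁻¹) (hs : orderOf s = 2)
    (hsw : s * w * s = w⁻¹) : ∃ c ∈ centralizer ({w} : Set G), c * t * c⁻¹ = s := by
  obtain ⟨d, hd, hdP, hdne⟩ := hh.exists_partner hw P hwP
  obtain ⟨U, hU, hUC, hexp, hmem, hconj⟩ := hh.exists_kernel hw
  have htt := sq_one_of_orderOf ht
  have hss := sq_one_of_orderOf hs
  have htw := hinv w hwP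
  obtain ⟨u0, hu0, hu0w, hu02, hu0f, huniq⟩ :=
    hh.exists_fixed ⟨hw, hd, hh.commute_sylow P hwP hdP, hdne⟩ htt htw (hinv d hdP)
  have htsC : t * s ∈ centralizer ({w} : Set G) := by
    rw [mem_centralizer_singleton_iff]
    calc t * s * w = t * (s * w * s) * s := by simp only [mul_assoc, hss, mul_one]
      _ = (t * w⁻¹ * t) * (t * s) := by
        rw [hsw]; simp only [mul_assoc]; rw [← mul_assoc t t, htt, one_mul]
      _ = w * (t * s) := by rw [conj_inv_of_invol htt htw]
  obtain ⟨u, hu, p, hp, hup⟩ := hh.exists_mul hw hwP hU hUC htsC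
  obtain ⟨-, -, -, hexpP⟩ := sylow_three hh.card hh.index P
  set r := p * p with hr
  have hrP : r ∈ (P : Subgroup G) := mul_mem hp hp
  have hrC : r ∈ centralizer ({w} : Set G) := mem_centralizer_singleton_iff.mpr (hh.commute_sylow P hrP hwP)
  have hprr : p = r * r := by
    calc p = p ^ 3 * p := by rw [hexpP p hp, one_mul]
      _ = r * r := by simp only [hr, pow_succ, pow_zero, one_mul, mul_assoc]
  have hs' : s = t * u * p := by
    rw [mul_assoc, ← hup, ← mul_assoc, htt, one_mul]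
  set u' := r⁻¹ * u * r with hu'
  have hu'U : u' ∈ U := by
    have := hconj _ (inv_mem hrC) u hu
    rwa [inv_inv] at this
  have hrt : r * t = t * r⁻¹ := by
    rw [← hinv r hrP]; simp only [← mul_assoc, htt, one_mul]
  have hconj_s : r * s * r⁻¹ = t * u' := by
    calc r * s * r⁻¹ = r * t * u * (r * r) * r⁻¹ := by rw [hs', hprr]; simp only [mul_assoc]
      _ = t * r⁻¹ * u * r := by rw [hrt]; group
      _ = t * u' := by rw [hu']; simp only [mul_assoc]
  have hfixu' : t * u' * t = u' := by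
    have h1 : t * u' * (t * u') = 1 := by
      rw [← hconj_s]
      calc r * s * r⁻¹ * (r * s * r⁻¹) = r * (s * s) * r⁻¹ := by group
        _ = 1 := by rw [hss]; group
    rw [← mul_assoc] at h1
    rw [eq_inv_of_mul_eq_one_left h1]
    exact inv_eq_of_mul_eq_one_right (hexp u' hu'U)
  rcases huniq u' (mem_centralizer_singleton_iff.mp (hUC hu'U)) (hexp u' hu'U) hfixu' with h1 | h1
  · refine ⟨r⁻¹, inv_mem hrC, ?_⟩
    rw [inv_inv, show s = r⁻¹ * (r * s * r⁻¹) * r by group, hconj_s, h1, mul_one]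
  · -- move by a kernel element which is not fixed
    obtain ⟨u1, hu1U, hu1⟩ : ∃ u1 ∈ U, t * u1 * t ≠ u1 := by
      by_contra hcon
      push Not at hcon
      have hle : U ≤ (zpowers u0) := fun z hz => by
        rcases huniq z (mem_centralizer_singleton_iff.mp (hUC hz)) (hexp z hz) (hcon z hz) with h | h
        · rw [h]; exact one_mem _
        · rw [h]; exact mem_zpowers _
      have h2 := card_dvd_of_le hle
      rw [hU, Nat.card_zpowers, orderOf_eq_prime (by rw [sq]; exact hu02) hu0] at h2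
      norm_num at h2
    have hu1w := mem_centralizer_singleton_iff.mp (hUC hu1U)
    obtain ⟨a, b⟩ := hh.conj_mem_kernel hu1w htt htw (hexp u1 hu1U)
    have hzU : t * u1 * t * u1 ∈ U := mul_mem (hmem _ (mem_centralizer_singleton_iff.mpr a) b) hu1U
    have hzf : t * (t * u1 * t * u1) * t = t * u1 * t * u1 := by
      rw [hh.kernel_commute hw a b hu1w (hexp u1 hu1U)]
      calc t * (u1 * (t * u1 * t)) * t = t * u1 * t * u1 * (t * t) := by simp only [mul_assoc]
        _ = t * u1 * t * u1 := by rw [htt, mul_one]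
        _ = _ := (hh.kernel_commute hw a b hu1w (hexp u1 hu1U))
    rcases huniq _ (mem_centralizer_singleton_iff.mp (hUC hzU)) (hexp _ hzU) hzf with h2 | h2
    · exfalso
      refine hu1 ?_
      rw [eq_inv_of_mul_eq_one_left h2, inv_eq_of_mul_eq_one_right (hexp u1 hu1U)]
    · refine ⟨r⁻¹ * u1, mul_mem (inv_mem hrC) (hUC hu1U), ?_⟩
      rw [show (r⁻¹ * u1)⁻¹ = u1⁻¹ * r by group, inv_eq_of_mul_eq_one_right (hexp u1 hu1U),
        show r⁻¹ * u1 * t * (u1 * r) = r⁻¹ * (u1 * t * u1) * r by simp only [mul_assoc],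
        show u1 * t * u1 = r * s * r⁻¹ by
          rw [hconj_s, h1, ← h2]
          simp only [← mul_assoc, htt, one_mul]]
      group

/-- At most eighteen involutions invert a central element. -/
theorem card_inverters_le {w : G} (hw : IsCentral w) :
    Nat.card {s : G // orderOf s = 2 ∧ s * w * s = w⁻¹} ≤ 18 := by
  classical
  obtain ⟨P, hwP⟩ := exists_sylow_mem hw.1
  obtain ⟨t, ht, hinv⟩ := hh.exists_inverter P
  obtain ⟨d, hd, hdP, hdne⟩ := hh.exists_partner hw P hwP
  obtain ⟨u0, hu0, hu0w, hu02, hu0f, -⟩ :=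
    hh.exists_fixed ⟨hw, hd, hh.commute_sylow P hwP hdP, hdne⟩ (sq_one_of_orderOf ht) (hinv w hwP) (hinv d hdP)
  set C := centralizer ({w} : Set G) with hC
  haveI := Fintype.ofFinite C
  let S : Finset G := Finset.univ.filter fun s => orderOf s = 2 ∧ s * w * s = w⁻¹
  have hsub : S ⊆ (Finset.univ : Finset C).image (fun c : C => (c : G) * t * (c : G)⁻¹) := by
    intro s hs
    obtain ⟨-, hs2, hsw⟩ := Finset.mem_filter.mp hs
    obtain ⟨c, hc, hcs⟩ := hh.exists_conj hw hwP ht hinv hs2 hsw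
    exact Finset.mem_image.mpr ⟨⟨c, hc⟩, Finset.mem_univ _, hcs⟩
  have hfib := Finset.mul_card_image_le_card (f := fun c : C => (c : G) * t * (c : G)⁻¹) Finset.univ 2 ?_
  · have h1 := Finset.card_le_card hsub
    rw [Finset.card_univ, ← Nat.card_eq_fintype_card, hh.card_centralizer hw] at hfib
    rw [Nat.card_eq_fintype_card, Fintype.card_subtype]
    change S.card ≤ 18
    omega
  intro b hb
  obtain ⟨c, -, rfl⟩ := Finset.mem_image.mp hb
  have hu0C : u0 ∈ C := mem_centralizer_singleton_iff.mpr hu0w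
  refine le_trans (le_of_eq (Finset.card_pair (a := c) (b := c * (⟨u0, hu0C⟩ : C)) fun h => hu0 ?_).symm)
    (Finset.card_le_card fun z hz => ?_)
  · have h1 : (c : G) * 1 = (c : G) * u0 := by rw [mul_one]; exact congrArg Subtype.val h
    exact (mul_left_cancel h1).symm
  · rw [Finset.mem_filter]
    refine ⟨Finset.mem_univ _, ?_⟩
    rcases Finset.mem_insert.mp hz with rfl | hz
    · rfl
    · rw [Finset.mem_singleton.mp hz, Subgroup.coe_mul]
      show (c : G) * u0 * t * ((c : G) * u0)⁻¹ = _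
      have h1 : u0 * t = t * u0 := by
        conv_lhs => rw [← hu0f]
        simp only [mul_assoc, sq_one_of_orderOf ht, mul_one]
      rw [mul_assoc (c : G), h1]
      group

/-- An involution inverts at most twelve central elements. -/
theorem card_inverted_le {s : G} (hs : orderOf s = 2) :
    Nat.card {w : G // IsCentral w ∧ s * w * s = w⁻¹} ≤ 12 := by
  classical
  obtain ⟨c, hc, -⟩ := hh.exists_central hs
  have hK : Nat.card {w : G // IsCentral w} = 70 := by
    have h1 := card_conjClass hh.card c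
    rw [hh.card_centralizer hc] at h1
    have h2 : Nat.card {w : G // IsCentral w} = Nat.card {w : G // IsConj c w} :=
      Nat.card_congr (Equiv.subtypeEquivRight fun w => ⟨hh.isConj_of_central hc, fun h => by
        obtain ⟨g, rfl⟩ := isConj_iff.mp h
        exact hc.conj g⟩)
    omega
  have hI : Nat.card {v : G // orderOf v = 2} = 105 := by
    have h1 := card_conjClass hh.card s
    rw [card_centralizer_involution hh.card hs] at h1
    have h2 : Nat.card {v : G // orderOf v = 2} = Nat.card {v : G // IsConj s v} :=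
      Nat.card_congr (Equiv.subtypeEquivRight fun v => ⟨hh.isConj_involution hs, fun h => by
        obtain ⟨g, rfl⟩ := isConj_iff.mp h
        rw [orderOf_conj, hs]⟩)
    omega
  set m := Nat.card {w : G // IsCentral w ∧ s * w * s = w⁻¹}
  have hsame : ∀ v : {v : G // orderOf v = 2},
      Nat.card {w : G // IsCentral w ∧ (v : G) * w * v = w⁻¹} = m := by
    intro v
    obtain ⟨g, hg⟩ := isConj_iff.mp (hh.isConj_involution hs v.2)
    refine (Nat.card_congr ((MulAut.conj g).toEquiv.subtypeEquiv fun w => ?_)).symm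
    show _ ↔ IsCentral (g * w * g⁻¹) ∧ (v : G) * (g * w * g⁻¹) * v = (g * w * g⁻¹)⁻¹
    rw [← hg]
    constructor
    · rintro ⟨h1, h2⟩
      refine ⟨h1.conj g, ?_⟩
      calc g * s * g⁻¹ * (g * w * g⁻¹) * (g * s * g⁻¹) = g * (s * w * s) * g⁻¹ := by group
        _ = _ := by rw [h2]; group
    · rintro ⟨h1, h2⟩
      refine ⟨by simpa [mul_assoc] using h1.conj g⁻¹, ?_⟩
      calc s * w * s = g⁻¹ * (g * s * g⁻¹ * (g * w * g⁻¹) * (g * s * g⁻¹)) * g := by group
        _ = _ := by rw [h2]; group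
  haveI := Fintype.ofFinite {v : G // orderOf v = 2}
  haveI := Fintype.ofFinite {w : G // IsCentral w}
  have h1 : Nat.card (Σ v : {v : G // orderOf v = 2}, {w : G // IsCentral w ∧ (v : G) * w * v = w⁻¹}) =
      105 * m := by
    rw [Nat.card_sigma, Finset.sum_congr rfl fun v _ => hsame v, Finset.sum_const, Finset.card_univ,
      smul_eq_mul, ← Nat.card_eq_fintype_card, hI]
  have h2 : Nat.card (Σ w : {w : G // IsCentral w}, {v : G // orderOf v = 2 ∧ v * w * v = (w : G)⁻¹}) ≤
      70 * 18 := by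
    rw [Nat.card_sigma, ← hK, Nat.card_eq_fintype_card, ← Finset.card_univ, ← smul_eq_mul]
    exact Finset.sum_le_card_nsmul _ _ _ fun w _ => hh.card_inverters_le w.2
  have h3 : Nat.card (Σ v : {v : G // orderOf v = 2}, {w : G // IsCentral w ∧ (v : G) * w * v = w⁻¹}) =
      Nat.card (Σ w : {w : G // IsCentral w}, {v : G // orderOf v = 2 ∧ v * w * v = (w : G)⁻¹}) :=
    Nat.card_congr ⟨fun z => ⟨⟨z.2.1, z.2.2.1⟩, ⟨z.1.1, z.1.2, z.2.2.2⟩⟩,
      fun z => ⟨⟨z.2.1, z.2.2.1⟩, ⟨z.1.1, z.1.2, z.2.2.2⟩⟩, fun z => rfl, fun z => rfl⟩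
  omega

/-- An inverting involution fixes two adjacent lines. -/
theorem exists_two {w s : G} (hw : IsCentral w) (hs : orderOf s = 2) (hsw : s * w * s = w⁻¹) :
    ∃ d₁ d₂ : G, (Adj w d₁ ∧ s * d₁ * s = d₁⁻¹) ∧ (Adj w d₂ ∧ s * d₂ * s = d₂⁻¹) ∧ d₂ ∉ zpowers d₁ ∧
      ∀ d : G, Adj w d → s * d * s = d⁻¹ → d ∈ zpowers d₁ ∨ d ∈ zpowers d₂ := by
  classical
  obtain ⟨P0, hwP0⟩ := exists_sylow_mem hw.1
  obtain ⟨t, ht, hinv⟩ := hh.exists_inverter P0
  obtain ⟨d0, hd0, hd0P, hd0ne⟩ := hh.exists_partner hw P0 hwP0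
  obtain ⟨c, hc, hcs⟩ := hh.exists_conj hw hwP0 ht hinv hs hsw
  have hcw : c * w * c⁻¹ = w := mul_inv_eq_iff_eq_mul.mpr (mem_centralizer_singleton_iff.mp hc)
  set d₁ := c * d0 * c⁻¹ with hd₁
  have hK1 : IsCentral d₁ := hd0.conj c
  have hc1 : w * d₁ = d₁ * w := by
    rw [hd₁, ← hcw]; exact conj_commute c (hh.commute_sylow P0 hwP0 hd0P)
  have hne1 : d₁ ∉ zpowers w := fun hm => hd0ne (by
    obtain ⟨i, hi⟩ := mem_zpowers_iff.mp hm
    refine ⟨i, ?_⟩
    show w ^ i = d0
    rw [← hcw, conj_zpow, hd₁] at hi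
    exact mul_left_cancel (mul_right_cancel hi))
  have hs1 : s * d₁ * s = d₁⁻¹ := by
    rw [hd₁, ← hcs]
    calc c * t * c⁻¹ * (c * d0 * c⁻¹) * (c * t * c⁻¹) = c * (t * d0 * t) * c⁻¹ := by group
      _ = _ := by rw [hinv d0 hd0P]; group
  have hadj1 : Adj w d₁ := ⟨hw, hK1, hc1, hne1⟩
  have hss := sq_one_of_orderOf hs
  obtain ⟨u0, hu0, hu0w, hu02, hu0f, huniq⟩ := hh.exists_fixed hadj1 hss hsw hs1
  have hu0i : u0⁻¹ = u0 := inv_eq_of_mul_eq_one_right hu02
  set d₂ := u0 * d₁ * u0⁻¹ with hd₂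
  have hu0wc : u0 * w * u0⁻¹ = w := mul_inv_eq_iff_eq_mul.mpr hu0w
  obtain ⟨U, hU, hUC, hexp, hmem, hconj⟩ := hh.exists_kernel hw
  have hfpf : ∀ {u y : G}, u ∈ U → IsCentral y → w * y = y * w → y ∉ zpowers w → u * y = y * u → u = 1 :=
    fun hu hy hc hne h => hh.eq_one_of_commute_kernel hw.1 hy.1 hc hne
      (mem_centralizer_singleton_iff.mp (hUC hu)) (hexp _ hu) h
  have hu0U : u0 ∈ U := hmem _ (mem_centralizer_singleton_iff.mpr hu0w) hu02
  obtain ⟨P1, hwP1, hd1P1⟩ := exists_sylow_plane hw.1 hK1.1 hc1 hne1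
  have hdisj : ∀ {u : G}, u ∈ U → u * d₁ * u⁻¹ ∈ (P1 : Subgroup G) → u = 1 := by
    intro u hu hm
    refine hfpf hu hK1 hc1 hne1 ?_
    have hz : u * d₁ * u⁻¹ * d₁⁻¹ ∈ (P1 : Subgroup G) := mul_mem hm (inv_mem hd1P1)
    have hz' : u * d₁ * u⁻¹ * d₁⁻¹ ∈ U := by
      rw [show u * d₁ * u⁻¹ * d₁⁻¹ = u * (d₁ * u⁻¹ * d₁⁻¹) by group]
      exact mul_mem hu (hconj _ (mem_centralizer_singleton_iff.mpr hc1.symm) _ (inv_mem hu))
    obtain ⟨hP1, -, -, -⟩ := sylow_three hh.card hh.index P1
    have h1 : orderOf (u * d₁ * u⁻¹ * d₁⁻¹) = 1 :=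
      Nat.eq_one_of_dvd_coprimes (show Nat.Coprime 4 9 by norm_num) (hU ▸ orderOf_dvd_natCard U hz')
        (hP1 ▸ orderOf_dvd_natCard _ hz)
    rw [orderOf_eq_one_iff] at h1
    calc u * d₁ = u * d₁ * u⁻¹ * d₁⁻¹ * (d₁ * u) := by group
      _ = d₁ * u := by rw [h1, one_mul]
  refine ⟨d₁, d₂, ⟨hadj1, hs1⟩, ⟨⟨hw, hK1.conj u0, ?_, ?_⟩, ?_⟩, ?_, ?_⟩
  · rw [hd₂]
    calc w * (u0 * d₁ * u0⁻¹) = (u0 * w * u0⁻¹) * (u0 * d₁ * u0⁻¹) := by rw [hu0wc]
      _ = (u0 * d₁ * u0⁻¹) * (u0 * w * u0⁻¹) := conj_commute u0 hc1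
      _ = _ := by rw [hu0wc]
  · intro hm
    refine hne1 ?_
    obtain ⟨i, hi⟩ := mem_zpowers_iff.mp hm
    refine ⟨i, ?_⟩
    show w ^ i = d₁
    rw [← hu0wc, conj_zpow, hd₂] at hi
    exact mul_left_cancel (mul_right_cancel hi)
  · rw [hd₂, hu0i]
    have h1 : s * u0 = u0 * s := by
      conv_rhs => rw [← hu0f]
      simp only [mul_assoc, hss, mul_one]
    calc s * (u0 * d₁ * u0) * s = (s * u0) * d₁ * (u0 * s) := by simp only [mul_assoc]
      _ = (u0 * s) * d₁ * (s * u0) := by rw [h1]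
      _ = u0 * (s * d₁ * s) * u0 := by simp only [mul_assoc]
      _ = _ := by rw [hs1]; simp only [mul_inv_rev, hu0i, mul_assoc]
  · intro hm
    exact hu0 (hdisj hu0U (zpowers_le.mpr hd1P1 hm))
  · intro d hd hds
    obtain ⟨-, hKd, hcd, hdne⟩ := hd
    obtain ⟨P', hwP', hdP'⟩ := exists_sylow_plane hw.1 hKd.1 hcd hdne
    set C := centralizer ({w} : Set G) with hC
    have hle : ∀ {P : Sylow 3 G}, w ∈ (P : Subgroup G) → (P : Subgroup G) ≤ C := fun hP y hy =>
      mem_centralizer_singleton_iff.mpr (hh.commute_sylow _ hy hP)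
    obtain ⟨e, he⟩ := MulAction.exists_smul_eq C (P1.subtype (hle hwP1)) (P'.subtype (hle hwP'))
    have hyP : (e : G)⁻¹ * d * e ∈ (P1 : Subgroup G) := by
      have h1 : (⟨d, hle hwP' hdP'⟩ : C) ∈ ((e • P1.subtype (hle hwP1) : Sylow 3 C) : Subgroup C) := by
        rw [he, Sylow.coe_subtype, mem_subgroupOf]; exact hdP'
      rw [Sylow.coe_subgroup_smul, Subgroup.mem_pointwise_smul_iff_inv_smul_mem, Sylow.coe_subtype,
        mem_subgroupOf] at h1
      simpa using h1
    obtain ⟨u, hu, p, hp, hep⟩ := hh.exists_mul hw hwP1 hU hUC e.2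
    set y := (e : G)⁻¹ * d * e with hy
    have hyK : IsCentral y := by simpa [hy] using hKd.conj (e : G)⁻¹
    have hdu : d = u * y * u⁻¹ := by
      rw [show d = (e : G) * y * (e : G)⁻¹ by rw [hy]; group, hep]
      calc u * p * y * (u * p)⁻¹ = u * (p * y) * p⁻¹ * u⁻¹ := by group
        _ = _ := by rw [hh.commute_sylow P1 hp hyP]; group
    have huw := mem_centralizer_singleton_iff.mp (hUC hu)
    have hyne : y ∉ zpowers w := by
      intro hm
      refine hdne ?_
      obtain ⟨i, hi⟩ := mem_zpowers_iff.mp hm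
      refine ⟨i, ?_⟩
      show w ^ i = d
      rw [hdu, ← hi, ← conj_zpow, mul_inv_eq_iff_eq_mul.mpr huw]
    have hy1 : y ∈ zpowers d₁ :=
      (hh.triangle hw hK1 hyK hc1 hne1 (hh.commute_sylow P1 hyP hwP1)
        (hh.commute_sylow P1 hyP hd1P1)).resolve_left hyne
    have hsy : s * y * s = y⁻¹ := by
      rcases eq_or_inv_of_mem_zpowers hK1.1 hy1 with h | h | h
      · exact absurd h (ne_one_of_orderOf (by norm_num) hyK.1)
      · rw [h]; exact hs1
      · rw [h, inv_inv]; exact conj_inv_of_invol hss hs1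
    have hui : u⁻¹ = u := inv_eq_of_mul_eq_one_right (hexp u hu)
    obtain ⟨a, b⟩ := hh.conj_mem_kernel huw hss hsw (hexp u hu)
    set u2 := s * u * s with hu2
    have hu2U : u2 ∈ U := hmem _ (mem_centralizer_singleton_iff.mpr a) b
    have h5 : u2 * y⁻¹ * u2 = u * y⁻¹ * u := by
      calc u2 * y⁻¹ * u2 = s * u * (s * y⁻¹ * s) * u * s := by rw [hu2]; simp only [mul_assoc]
        _ = s * d * s := by rw [conj_inv_of_invol hss hsy, hdu, hui]; simp only [mul_assoc]
        _ = _ := by rw [hds, hdu, hui]; simp only [mul_inv_rev, hui, mul_assoc]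
    have hu2i : u2⁻¹ = u2 := inv_eq_of_mul_eq_one_right b
    have h6 : u * u2 * y⁻¹ = y⁻¹ * (u * u2) := by
      calc u * u2 * y⁻¹ = u * (u2 * y⁻¹ * u2) * u2⁻¹ := by group
        _ = u * (u * y⁻¹ * u) * u2⁻¹ := by rw [h5]
        _ = (u * u) * y⁻¹ * u * u2 := by rw [hu2i]; simp only [mul_assoc]
        _ = _ := by rw [hexp u hu, one_mul, mul_assoc]
    have h7 := hfpf (mul_mem hu hu2U) hyK (hh.commute_sylow P1 hwP1 hyP) hyne
      (by
        have h8 := ((show Commute (u * u2) y⁻¹ from h6).inv_right).eq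
        rwa [inv_inv] at h8)
    have hfix : s * u * s = u := by
      rw [← hu2, ← inv_eq_of_mul_eq_one_right h7, hui]
    rcases huniq u huw (hexp u hu) hfix with h | h
    · left; rw [hdu, h]; simpa using hy1
    · right
      rw [hdu, h, hd₂]
      obtain ⟨i, hi⟩ := mem_zpowers_iff.mp hy1
      exact ⟨i, by show (u0 * d₁ * u0⁻¹) ^ i = _; rw [conj_zpow, hi]⟩

/-- The product of an adjacent element and an element of the kernel has order three. -/
theorem cube_eq_one {w y u : G} (hwy : Adj w y) (huw : u * w = w * u) (hu : u * u = 1) :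
    (y * u) ^ 3 = 1 := by
  classical
  obtain ⟨hw, hy, hc, hne⟩ := hwy
  have hy3 : y ^ 3 = 1 := by rw [← hy.1, pow_orderOf_eq_one]
  rcases eq_or_ne u 1 with rfl | hu1
  · rw [mul_one, hy3]
  obtain ⟨U, hU, hUC, hexp, hmem, hconj⟩ := hh.exists_kernel hw
  haveI := Fintype.ofFinite U
  have hyC : y ∈ centralizer ({w} : Set G) := mem_centralizer_singleton_iff.mpr hc.symm
  have huU : u ∈ U := hmem u (mem_centralizer_singleton_iff.mpr huw) hu
  set v := y * u * y⁻¹ with hv
  set z := y * v * y⁻¹ with hz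
  have hvU : v ∈ U := hconj y hyC u huU
  have hzU : z ∈ U := hconj y hyC v hvU
  have hnc : ∀ {g : G}, g ∈ U → y * g * y⁻¹ = g → g = 1 := fun {g} hg h =>
    hh.eq_one_of_commute_kernel hw.1 hy.1 hc hne (mem_centralizer_singleton_iff.mp (hUC hg)) (hexp g hg)
      (mul_inv_eq_iff_eq_mul.mp h).symm
  have hback : y * z * y⁻¹ = u := by
    rw [hz, hv]
    calc y * (y * (y * u * y⁻¹) * y⁻¹) * y⁻¹ = y * y * y * u * (y * y * y)⁻¹ := by group
      _ = u := by rw [show y * y * y = 1 by rw [← hy3, pow_succ, sq]]; group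
  have n1 : v ≠ 1 := fun h => hu1 (by
    rw [hv, mul_inv_eq_one, mul_eq_left] at h; exact h)
  have n2 : v ≠ u := fun h => hu1 (hnc huU h)
  have n3 : z ≠ v := fun h => n1 (hnc hvU h)
  have n4 : z ≠ u := fun h => hu1 (hnc huU ((congrArg (fun g => y * g * y⁻¹) h).symm.trans hback))
  have n5 : z ≠ 1 := fun h => hu1 (by rw [← hback, h]; group)
  have hset : (Finset.univ : Finset U) = {1, ⟨u, huU⟩, ⟨v, hvU⟩, ⟨z, hzU⟩} := by
    refine (Finset.eq_univ_of_card _ ?_).symm
    rw [← Nat.card_eq_fintype_card, hU, Finset.card_insert_of_notMem (by simp [Subtype.ext_iff, Ne.symm hu1, n1.symm, n5.symm]),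
      Finset.card_insert_of_notMem (by simp [Subtype.ext_iff, n2.symm, n4.symm]),
      Finset.card_insert_of_notMem (by simp [Subtype.ext_iff, n3.symm]), Finset.card_singleton]
  have huv : v * u = z := by
    have hm : (⟨v * u, mul_mem hvU huU⟩ : U) ∈ ({1, ⟨u, huU⟩, ⟨v, hvU⟩, ⟨z, hzU⟩} : Finset U) :=
      hset ▸ Finset.mem_univ _
    simp only [Finset.mem_insert, Finset.mem_singleton, Subtype.ext_iff, OneMemClass.coe_one] at hm
    rcases hm with h | h | h | h
    · exact absurd ((eq_inv_of_mul_eq_one_left h).trans (inv_eq_of_mul_eq_one_right hu)) n2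
    · exact absurd (mul_eq_right.mp h) n1
    · exact absurd (mul_eq_left.mp h) hu1
    · exact h
  have hvv : v * v = 1 := hexp v hvU
  calc (y * u) ^ 3 = v * z * ((y ^ 3) * u) := by rw [hz, hv]; simp only [pow_succ, pow_zero, one_mul]; group
    _ = v * (v * u) * u := by rw [hy3, one_mul, huv, mul_assoc]
    _ = 1 := by rw [← mul_assoc, hvv, one_mul, hu]

end Hyp

end Cfsg.Agent.Lib.SmallGroups.Order2520
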