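/-
A simple group of order 2520 has a subgroup of index seven.
-/
import Mathlib
import Cfsg.Agent.S3335
import Cfsg.Agent.Lib.SmallGroups.Order2520.Inverters

set_option autoImplicit false
set_option linter.unusedSectionVars false
set_option linter.style.haveILetI false

namespace Cfsg.Agent.Lib.SmallGroups.Order2520

open Subgroup

universe u

variable {G : Type u} [Group G] [Fintype G] [IsSimpleGroup G]

theorem exists_hom_six {a x₂ x₃ x₄ : G} (ha : a ^ 3 = 1) (h2 : x₂ ^ 2 = 1) (h3 : x₃ ^ 2 = 1)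
    (h4 : x₄ ^ 2 = 1) (a2 : (a * x₂) ^ 3 = 1) (a3 : (a * x₃) ^ 2 = 1) (a4 : (a * x₄) ^ 2 = 1)
    (h23 : (x₂ * x₃) ^ 3 = 1) (h34 : (x₃ * x₄) ^ 3 = 1) (h24 : (x₂ * x₄) ^ 2 = 1) :
    ∃ φ : alternatingGroup (Fin 6) →* G, a ∈ φ.range := by
  obtain ⟨e⟩ := Cfsg.Agent.S3335.result 6 (by norm_num)
  let f : Fin (6 - 2) → G := ![a, x₂, x₃, x₄]
  have hrels : ∀ r ∈
      ({g : FreeGroup (Fin (6 - 2)) | ∃ i : Fin (6 - 2), i.val = 0 ∧ g = FreeGroup.of i ^ 3} ∪
       {g | ∃ i : Fin (6 - 2), 1 ≤ i.val ∧ g = FreeGroup.of i ^ 2} ∪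
       {g | ∃ i j : Fin (6 - 2), j.val = i.val + 1 ∧ g = (FreeGroup.of i * FreeGroup.of j) ^ 3} ∪
       {g | ∃ i j : Fin (6 - 2), i.val + 1 < j.val ∧ g = (FreeGroup.of i * FreeGroup.of j) ^ 2}),
      FreeGroup.lift f r = 1 := by
    intro r hr
    rcases hr with ((⟨i, hi, rfl⟩ | ⟨i, hi, rfl⟩) | ⟨i, j, hij, rfl⟩) | ⟨i, j, hij, rfl⟩
    · simp only [map_pow, FreeGroup.lift_apply_of]
      fin_cases i <;> simp_all [f]
    · simp only [map_pow, FreeGroup.lift_apply_of]
      fin_cases i <;> simp_all [f]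
    · simp only [map_pow, map_mul, FreeGroup.lift_apply_of]
      fin_cases i <;> fin_cases j <;> simp_all [f]
    · simp only [map_pow, map_mul, FreeGroup.lift_apply_of]
      fin_cases i <;> fin_cases j <;> simp_all [f]
  refine ⟨(PresentedGroup.toGroup hrels).comp e.symm.toMonoidHom, ⟨e (PresentedGroup.of 0), ?_⟩⟩
  simp [f]

variable [Fact (Nat.Prime 2)] [Fact (Nat.Prime 3)]

theorem Hyp.false_of_hyp (hh : Hyp G) : False := by
  classical
  -- the seeds
  obtain ⟨v, hv⟩ := exists_prime_orderOf_dvd_card' (G := G) 2 (by rw [hh.card]; norm_num)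
  obtain ⟨d, hd, -⟩ := hh.exists_central hv
  obtain ⟨P, hdP⟩ := exists_sylow_mem hd.1
  obtain ⟨e, he, heP, hed⟩ := hh.exists_partner hd P hdP
  have hde : Adj d e := ⟨hd, he, hh.commute_sylow P hdP heP, hed⟩
  obtain ⟨t, ht, hinv⟩ := hh.exists_inverter P
  have htt := sq_one_of_orderOf ht
  have htd := hinv d hdP
  have hte := hinv e heP
  obtain ⟨x4, hx4⟩ : ∃ z : G, z = e * t := ⟨_, rfl⟩
  have hetet : e * t * (e * t) = 1 := by
    rw [show e * t * (e * t) = e * (t * e * t) by simp only [mul_assoc], hte, mul_inv_cancel]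
  have hx4ne : x4 ≠ 1 := by
    intro h
    have h1 : t = e⁻¹ := (inv_eq_of_mul_eq_one_right (hx4 ▸ h)).symm
    have := congrArg orderOf h1
    rw [ht, orderOf_inv, he.1] at this
    norm_num at this
  have hx4o : orderOf x4 = 2 := orderOf_eq_prime (by rw [sq, hx4]; exact hetet) hx4ne
  have hx4e : x4 * e * x4 = e⁻¹ := by
    calc x4 * e * x4 = e * (t * (e * e) * t) := by rw [hx4]; simp only [mul_assoc]
      _ = e * ((t * e * t) * (t * e * t)) := by
        simp only [mul_assoc]; rw [← mul_assoc t t, htt, one_mul]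
      _ = _ := by rw [hte, mul_inv_cancel_left]
  have hx4d : x4 * d * x4 = d⁻¹ := by
    calc x4 * d * x4 = e * (t * d * e * t) := by rw [hx4]; simp only [mul_assoc]
      _ = e * ((t * d * t) * (t * e * t)) := by
        simp only [mul_assoc]; rw [← mul_assoc t t, htt, one_mul]
      _ = e * (d⁻¹ * e⁻¹) := by rw [htd, hte]
      _ = d⁻¹ := by
        rw [((show Commute d e from hde.2.2.1).inv_inv).eq, mul_inv_cancel_left]
  have hx44 := sq_one_of_orderOf hx4o
  obtain ⟨u4, hu41, hu4d, hu42, hu4f, -⟩ := hh.exists_fixed hde hx44 hx4d hx4e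
  have hu4i : u4⁻¹ = u4 := inv_eq_of_mul_eq_one_right hu42
  have hx4u4 : x4 * u4 = u4 * x4 := by
    conv_rhs => rw [← hu4f]
    simp only [mul_assoc, hx44, mul_one]
  obtain ⟨x2, hx2⟩ : ∃ z : G, z = x4 * u4 := ⟨_, rfl⟩
  have hx22 : x2 * x2 = 1 := by
    calc x2 * x2 = x4 * (u4 * x4) * u4 := by rw [hx2]; simp only [mul_assoc]
      _ = (x4 * x4) * (u4 * u4) := by rw [← hx4u4]; simp only [mul_assoc]
      _ = 1 := by rw [hx44, hu42, one_mul]
  have hx2d : x2 * d * x2 = d⁻¹ := by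
    calc x2 * d * x2 = x4 * (u4 * d) * (x4 * u4) := by rw [hx2]; simp only [mul_assoc]
      _ = x4 * d * (u4 * x4) * u4 := by rw [hu4d]; simp only [mul_assoc]
      _ = (x4 * d * x4) * (u4 * u4) := by rw [← hx4u4]; simp only [mul_assoc]
      _ = _ := by rw [hx4d, hu42, mul_one]
  have hx2ne : x2 ≠ 1 := fun h => by
    rw [h, one_mul, mul_one] at hx2d
    have h2 := orderOf_dvd_of_pow_eq_one (show d ^ 2 = 1 by
      rw [sq]; exact inv_eq_iff_mul_eq_one.mp hx2d.symm)
    rw [hd.1] at h2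
    norm_num at h2
  have hx2o : orderOf x2 = 2 := orderOf_eq_prime (by rw [sq]; exact hx22) hx2ne
  have hx2i : x2⁻¹ = x2 := inv_of_orderOf hx2o
  have hx24 : x4 * x2 = x2 * x4 := by rw [hx2, mul_assoc, ← hx4u4]
  -- conjugation by x2
  have hmap : ∀ {a b : G}, Adj a b → Adj (x2 * a * x2) (x2 * b * x2) := by
    intro a b ⟨h1, h2, h3, h4⟩
    have e1 : ∀ g : G, x2 * g * x2 = x2 * g * x2⁻¹ := fun g => by rw [hx2i]
    rw [e1, e1]
    refine ⟨h1.conj x2, h2.conj x2, conj_commute x2 h3, fun hm => h4 ?_⟩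
    obtain ⟨i, hi⟩ := mem_zpowers_iff.mp hm
    refine ⟨i, ?_⟩
    show a ^ i = b
    rw [conj_zpow] at hi
    exact mul_left_cancel (mul_right_cancel hi)
  have hinvmap : ∀ {a : G}, x4 * a * x4 = a⁻¹ → x4 * (x2 * a * x2) * x4 = (x2 * a * x2)⁻¹ := by
    intro a ha
    calc x4 * (x2 * a * x2) * x4 = (x4 * x2) * a * (x2 * x4) := by simp only [mul_assoc]
      _ = (x2 * x4) * a * (x4 * x2) := by rw [hx24]
      _ = x2 * (x4 * a * x4) * x2 := by simp only [mul_assoc]
      _ = _ := by rw [ha, mul_inv_rev, mul_inv_rev, hx2i, mul_assoc]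
  have hfpf : ¬ (u4 * e = e * u4) := fun h =>
    hu41 (hh.eq_one_of_commute_kernel hd.1 he.1 hde.2.2.1 hed hu4d hu42 h)
  -- the line of `h`
  set h' := x2 * e * x2 with hh'
  have hdh : Adj d h' := by
    obtain ⟨-, b, c, -⟩ := hmap hde
    refine ⟨hd, b, ?_, ?_⟩
    · rw [hx2d] at c
      have := ((show Commute d⁻¹ (x2 * e * x2) from c).inv_left).eq
      rwa [inv_inv] at this
    · intro hm
      refine (hmap hde).2.2.2 ?_
      rw [hx2d, zpowers_inv]
      exact hm
  have hh'4 : x4 * h' * x4 = h'⁻¹ := hinvmap hx4e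
  have heh : h' ∉ zpowers e := by
    intro hm
    have h1 : h' = u4 * e⁻¹ * u4 := by
      rw [hh', hx2]
      calc x4 * u4 * e * (x4 * u4) = (x4 * u4) * e * (x4 * u4) := rfl
        _ = (u4 * x4) * e * (x4 * u4) := by rw [hx4u4]
        _ = u4 * (x4 * e * x4) * u4 := by simp only [mul_assoc]
        _ = _ := by rw [hx4e]
    obtain ⟨i, hi⟩ := mem_zpowers_iff.mp hm
    refine hfpf ?_
    rcases eq_or_inv_of_mem_zpowers he.1 hm with h2 | h2 | h2
    · exact absurd h2 (ne_one_of_orderOf (by norm_num) hdh.2.1.1)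
    · -- the element is inverted
      exfalso
      rw [h1] at h2
      obtain ⟨U, hU, hUC, hexp, hmem, hconj⟩ := hh.exists_kernel hd
      have heC : e ∈ centralizer ({d} : Set G) := mem_centralizer_singleton_iff.mpr hde.2.2.1.symm
      have h3 : u4 * (e⁻¹ * u4 * e) = e * e := by
        calc u4 * (e⁻¹ * u4 * e) = (u4 * e⁻¹ * u4) * e := by simp only [mul_assoc]
          _ = e * e := by rw [h2]
      have h4 : e * e ∈ U := by
        rw [← h3]
        refine mul_mem (hmem _ (mem_centralizer_singleton_iff.mpr hu4d) hu42) ?_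
        have := hconj _ (inv_mem heC) _ (hmem _ (mem_centralizer_singleton_iff.mpr hu4d) hu42)
        rwa [inv_inv] at this
      have h5 := orderOf_dvd_of_pow_eq_one (show e ^ 4 = 1 by
        rw [show (4 : ℕ) = 2 + 2 from rfl, pow_add, sq]; exact hexp _ h4)
      rw [he.1] at h5
      norm_num at h5
    · rw [h1] at h2
      have h3 : u4 * e⁻¹ = e⁻¹ * u4 := by
        calc u4 * e⁻¹ = u4 * e⁻¹ * (u4 * u4) := by rw [hu42, mul_one]
          _ = (u4 * e⁻¹ * u4) * u4 := by simp only [mul_assoc]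
          _ = _ := by rw [h2]
      have := ((show Commute u4 e⁻¹ from h3).inv_right).eq
      rwa [inv_inv] at this
  -- the line of `a`
  obtain ⟨d1, d2, ⟨hA1, hi1⟩, ⟨hA2, hi2⟩, hne12, -⟩ := hh.exists_two he ht hte
  obtain ⟨a, hea, hta, had⟩ : ∃ a, Adj e a ∧ t * a * t = a⁻¹ ∧ a ∉ zpowers d := by
    by_cases h1 : d1 ∈ zpowers d
    · exact ⟨d2, hA2, hi2, fun h2 => hne12 (zpowers_le.mpr
        (mem_zpowers_symm hd.1 h1 (ne_one_of_orderOf (by norm_num) hA1.2.1.1)) h2)⟩
    · exact ⟨d1, hA1, hi1, h1⟩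
  have hx4a : x4 * a * x4 = a⁻¹ := by
    calc x4 * a * x4 = e * (t * a * e * t) := by rw [hx4]; simp only [mul_assoc]
      _ = e * ((t * a * t) * (t * e * t)) := by
        simp only [mul_assoc]; rw [← mul_assoc t t, htt, one_mul]
      _ = e * (a⁻¹ * e⁻¹) := by rw [hta, hte]
      _ = a⁻¹ := by
        rw [((show Commute e a from hea.2.2.1).inv_inv).symm.eq, mul_inv_cancel_left]
  set a' := x2 * a * x2 with ha'
  have hha' : Adj h' a' := hmap hea
  have hx4a' := hinvmap hx4a
  obtain ⟨f, hfK, hfx2⟩ := hh.exists_central hx2o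
  have hfnorm : x4 * f * x4 ∈ zpowers f := by
    refine hh.unique_line hfK ?_ hx2o hfx2 ?_
    · rw [show x4 * f * x4 = x4 * f * x4⁻¹ by rw [inv_of_orderOf hx4o], orderOf_conj, hfK.1]
    · calc x2 * (x4 * f * x4) = (x2 * x4) * f * x4 := by simp only [mul_assoc]
        _ = (x4 * x2) * f * x4 := by rw [hx24]
        _ = x4 * (x2 * f) * x4 := by simp only [mul_assoc]
        _ = x4 * f * (x2 * x4) := by rw [hfx2]; simp only [mul_assoc]
        _ = x4 * f * (x4 * x2) := by rw [hx24]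
        _ = _ := by simp only [mul_assoc]
  have hfd : f ∉ zpowers d := by
    intro hm
    have h1 : x2 * d = d * x2 := by
      obtain ⟨i, hi⟩ := mem_zpowers_iff.mp (mem_zpowers_symm hd.1 hm (ne_one_of_orderOf (by norm_num) hfK.1))
      rw [← hi]
      exact ((show Commute x2 f from hfx2).zpow_right i).eq
    rw [h1, mul_assoc, hx22, mul_one] at hx2d
    have h2 := orderOf_dvd_of_pow_eq_one (show d ^ 2 = 1 by
      rw [sq]; exact inv_eq_iff_mul_eq_one.mp hx2d.symm)
    rw [hd.1] at h2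
    norm_num at h2
  have hf4 : x4 * f * x4 = f⁻¹ := by
    rcases eq_or_inv_of_mem_zpowers hfK.1 hfnorm with h1 | h1 | h1
    · exfalso
      refine ne_one_of_orderOf (by norm_num) hfK.1 ?_
      calc f = (x4 * x4) * f * (x4 * x4) := by rw [hx44, one_mul, mul_one]
        _ = x4 * (x4 * f * x4) * x4 := by simp only [mul_assoc]
        _ = 1 := by rw [h1, mul_one, hx44]
    · exfalso
      have h2 : x4 * f = f * x4 := by
        calc x4 * f = x4 * f * (x4 * x4) := by rw [hx44, mul_one]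
          _ = x4 * f * x4 * x4 := by simp only [mul_assoc]
          _ = f * x4 := by rw [h1]
      have h3 : u4 * f = f * u4 := by
        have hu : u4 = x4 * x2 := by rw [hx2, ← mul_assoc, hx44, one_mul]
        rw [hu]
        exact ((show Commute x4 f from h2).mul_left (show Commute x2 f from hfx2)).eq
      exact hfd (hh.unique_line hd hfK.1 (orderOf_eq_prime (by rw [sq]; exact hu42) hu41) hu4d h3)
    · exact h1
  -- four cycles collapse
  have hC4 : ∀ {p q r s : G}, Adj p q → Adj p r → r ∉ zpowers q → Adj s q → Adj s r → s ∈ zpowers p := by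
    intro p q r s hpq hpr hne hsq hsr
    set H := centralizer ({p} : Set G) ⊓ centralizer ({s} : Set G) with hH
    have hqH : q ∈ H := ⟨mem_centralizer_singleton_iff.mpr hpq.2.2.1.symm,
      mem_centralizer_singleton_iff.mpr hsq.2.2.1.symm⟩
    have hrH : r ∈ H := ⟨mem_centralizer_singleton_iff.mpr hpr.2.2.1.symm,
      mem_centralizer_singleton_iff.mpr hsr.2.2.1.symm⟩
    by_cases h2 : 2 ∣ Nat.card H
    · obtain ⟨⟨w, hwH⟩, hw2⟩ := exists_prime_orderOf_dvd_card' 2 h2
      rw [Subgroup.orderOf_mk] at hw2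
      exact hh.unique_line hpq.1 hsq.1.1 hw2 (mem_centralizer_singleton_iff.mp hwH.1)
        (mem_centralizer_singleton_iff.mp hwH.2)
    · exfalso
      have h9 : Nat.card H ∣ 3 ^ 2 := by
        have h1 : Nat.card H ∣ 4 * 9 := (card_dvd_of_le (inf_le_left : H ≤ centralizer ({p} : Set G))).trans
          (dvd_of_eq (hh.card_centralizer hpq.1))
        have hco : Nat.Coprime (Nat.card H) 4 := by
          have := ((Nat.Prime.coprime_iff_not_dvd Nat.prime_two).mpr h2).symm.pow_right 2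
          simpa using this
        simpa using hco.dvd_of_dvd_mul_left h1
      obtain ⟨i, -, hi⟩ := (Nat.dvd_prime_pow Nat.prime_three).mp h9
      obtain ⟨P', hP'⟩ := (IsPGroup.of_card (p := 3) hi).exists_le_sylow
      rcases hh.triangle hpq.1 hpq.2.1 hpr.2.1 hpq.2.2.1 hpq.2.2.2 hpr.2.2.1.symm
        (hh.commute_sylow P' (hP' hrH) (hP' hqH)) with h | h
      · exact hpr.2.2.2 h
      · exact hne h
  -- distinct lines
  let R : G → G → Prop := fun p q => q ∈ zpowers p
  have hsymm : ∀ {p q : G}, IsCentral p → IsCentral q → R p q → R q p := fun hp hq h =>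
    mem_zpowers_symm hp.1 h (ne_one_of_orderOf (by norm_num) hq.1)
  have htrans : ∀ {p q r : G}, R p q → R q r → R p r := fun h h' => zpowers_le.mpr h h'
  have hx2inj : ∀ {p q : G}, R (x2 * p * x2) (x2 * q * x2) → R p q := by
    intro p q hm
    obtain ⟨i, hi⟩ := mem_zpowers_iff.mp hm
    refine ⟨i, ?_⟩
    show p ^ i = q
    rw [show x2 * p * x2 = x2 * p * x2⁻¹ by rw [hx2i], conj_zpow, hx2i] at hi
    exact mul_left_cancel (mul_right_cancel hi)
  have hback : ∀ p : G, x2 * (x2 * p * x2) * x2 = p := fun p => by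
    calc x2 * (x2 * p * x2) * x2 = (x2 * x2) * p * (x2 * x2) := by simp only [mul_assoc]
      _ = p := by rw [hx22, one_mul, mul_one]
  have haK : IsCentral a := hea.2.1
  have ha'K : IsCentral a' := hha'.2.1
  have hh'K : IsCentral h' := hdh.2.1
  have n_de : ¬ R d e := hed
  have n_dh : ¬ R d h' := hdh.2.2.2
  have n_da : ¬ R d a := had
  have n_ea : ¬ R e a := hea.2.2.2
  have n_eh : ¬ R e h' := heh
  have hx2dR : R (x2 * d * x2) d := by
    rw [hx2d]
    show d ∈ zpowers d⁻¹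
    rw [zpowers_inv]; exact mem_zpowers d
  have n_da' : ¬ R d a' := fun h1 => n_da (hx2inj (htrans hx2dR h1))
  have n_ha : ¬ R h' a := by
    intro h1
    -- then `d` commutes with `a`
    have hcd : d * a = a * d := by
      obtain ⟨i, hi⟩ := mem_zpowers_iff.mp h1
      rw [← hi]
      exact ((show Commute d h' from hdh.2.2.1).zpow_right i).eq
    rcases hh.triangle hd he haK hde.2.2.1 hed hcd.symm hea.2.2.1.symm with h2 | h2
    · exact had h2
    · exact n_ea h2
  have n_ea' : ¬ R e a' := fun h1 => n_ha (hx2inj (by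
    show a' ∈ zpowers (x2 * h' * x2)
    rw [hh', hback]; exact h1))
  have n_ha' : ¬ R h' a' := hha'.2.2.2
  have n_aa' : ¬ R a a' := by
    intro h1
    have hadj : Adj a h' := by
      refine ⟨haK, hh'K, ?_, fun h2 => n_ha (hsymm haK hh'K h2)⟩
      obtain ⟨i, hi⟩ := mem_zpowers_iff.mp (hsymm haK ha'K h1)
      rw [← hi]
      exact (((show Commute h' a' from hha'.2.2.1).zpow_right i).eq).symm
    exact n_da (hC4 hde hdh heh hea.symm hadj)
  have n_fd : ¬ R d f := hfd
  have hfx : x2 * f * x2 = f := by rw [hfx2, mul_assoc, hx22, mul_one]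
  have hffix : ∀ {p : G}, IsCentral p → R p f → R p (x2 * p * x2) := by
    intro p hp h1
    have h2 := hsymm hp hfK h1
    obtain ⟨i, hi⟩ := mem_zpowers_iff.mp h2
    have h3 : x2 * p * x2 = p := by
      rw [← hi, show x2 * f ^ i * x2 = x2 * f ^ i * x2⁻¹ by rw [hx2i], ← conj_zpow, hx2i, hfx]
    rw [h3]
    exact mem_zpowers p
  have n_fe : ¬ R e f := fun h1 => n_eh (hffix he h1)
  have n_fh : ¬ R h' f := fun h1 => n_eh (hsymm hh'K he (by
    have := hffix hh'K h1
    rwa [hh', hback] at this))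
  have n_fa : ¬ R a f := fun h1 => n_aa' (hffix haK h1)
  have n_fa' : ¬ R a' f := fun h1 => n_aa' (hsymm ha'K haK (by
    have := hffix ha'K h1
    rwa [ha', hback] at this))
  -- at most six lines are inverted
  have hsix : ∀ q : G, IsCentral q → x4 * q * x4 = q⁻¹ →
      R d q ∨ R e q ∨ R h' q ∨ R a q ∨ R a' q ∨ R f q := by
    intro q hq hq4
    by_contra hcon
    simp only [not_or] at hcon
    obtain ⟨q1, q2, q3, q4, q5, q6⟩ := hcon
    let L : Fin 7 → G := ![d, e, h', a, a', f, q]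
    have hL : ∀ i, IsCentral (L i) ∧ x4 * L i * x4 = (L i)⁻¹ := by
      intro i
      fin_cases i
      exacts [⟨hd, hx4d⟩, ⟨he, hx4e⟩, ⟨hh'K, hh'4⟩, ⟨haK, hx4a⟩, ⟨ha'K, hx4a'⟩, ⟨hfK, hf4⟩, ⟨hq, hq4⟩]
    have hlt : ∀ i j : Fin 7, i < j → ¬ R (L i) (L j) := by
      intro i j hij
      fin_cases i <;> fin_cases j <;> first | exact absurd hij (by decide) | assumption
    have hdist : ∀ i j : Fin 7, i ≠ j → ¬ R (L i) (L j) := fun i j hij h1 => by
      rcases lt_or_gt_of_ne hij with h2 | h2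
      · exact hlt i j h2 h1
      · exact hlt j i h2 (hsymm (hL i).1 (hL j).1 h1)
    let φ : Fin 7 × Bool → {w : G // IsCentral w ∧ x4 * w * x4 = w⁻¹} := fun p =>
      if p.2 then ⟨L p.1, hL p.1⟩ else ⟨(L p.1)⁻¹, (hL p.1).1.inv, by
        rw [conj_inv_of_invol hx44 (hL p.1).2, inv_inv]⟩
    have hinj : Function.Injective φ := by
      rintro ⟨i, b⟩ ⟨j, c⟩ hbc
      have hbc' := congrArg Subtype.val hbc
      have hij : i = j := by
        by_contra hne
        refine hdist i j hne ?_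
        show L j ∈ zpowers (L i)
        cases b <;> cases c <;> simp [φ] at hbc'
        · rw [← hbc']; exact mem_zpowers _
        · rw [← hbc']; exact inv_mem (mem_zpowers _)
        · rw [hbc', zpowers_inv]; exact mem_zpowers _
        · rw [← hbc']; exact mem_zpowers _
      subst hij
      have hne : L i ≠ (L i)⁻¹ := fun h1 => by
        have := orderOf_dvd_of_pow_eq_one (show L i ^ 2 = 1 by rw [sq]; exact inv_eq_iff_mul_eq_one.mp h1.symm)
        rw [(hL i).1.1] at this
        norm_num at this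
      cases b <;> cases c <;> simp [φ] at hbc'
      · rfl
      · exact absurd hbc'.symm hne
      · exact absurd hbc' hne
      · rfl
    have hc := Nat.card_le_card_of_injective φ hinj
    have hb := hh.card_inverted_le hx4o
    simp only [Nat.card_eq_fintype_card (α := Fin 7 × Bool), Fintype.card_prod, Fintype.card_fin,
      Fintype.card_bool] at hc
    omega
  -- no line has three inverted neighbours
  have hnbr : ∀ {p q r s : G}, Adj p q → x4 * q * x4 = q⁻¹ → Adj p r → x4 * r * x4 = r⁻¹ →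
      ¬ R q r → Adj p s → x4 * s * x4 = s⁻¹ → x4 * p * x4 = p⁻¹ → R q s ∨ R r s := by
    intro p q r s hpq hq hpr hr hne hps hs hp
    obtain ⟨c1, c2, ⟨hc1, -⟩, ⟨hc2, -⟩, -, hall⟩ := hh.exists_two hpq.1 hx4o hp
    rcases hall q hpq hq with h1 | h1 <;> rcases hall r hpr hr with h2 | h2 <;>
      rcases hall s hps hs with h3 | h3
    · exact absurd (htrans (hsymm hc1.2.1 hpq.2.1 h1) h2) hne
    · exact absurd (htrans (hsymm hc1.2.1 hpq.2.1 h1) h2) hne
    · exact Or.inl (htrans (hsymm hc1.2.1 hpq.2.1 h1) h3)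
    · exact Or.inr (htrans (hsymm hc2.2.1 hpr.2.1 h2) h3)
    · exact Or.inr (htrans (hsymm hc1.2.1 hpr.2.1 h2) h3)
    · exact Or.inl (htrans (hsymm hc2.2.1 hpq.2.1 h1) h3)
    · exact absurd (htrans (hsymm hc2.2.1 hpq.2.1 h1) h2) hne
    · exact absurd (htrans (hsymm hc2.2.1 hpq.2.1 h1) h2) hne
  -- transport of adjacency along a line
  have hadjR : ∀ {p q r : G}, Adj p q → IsCentral r → R q r → Adj p r := by
    intro p q r hpq hr h1
    refine ⟨hpq.1, hr, ?_, fun h2 => hpq.2.2.2 (htrans h2 (hsymm hpq.2.1 hr h1))⟩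
    obtain ⟨i, hi⟩ := mem_zpowers_iff.mp h1
    rw [← hi]
    exact ((show Commute p q from hpq.2.2.1).zpow_right i).eq
  -- `a` and `f` commute
  have haf : Adj a f := by
    obtain ⟨c1, c2, ⟨hc1, hi1⟩, ⟨hc2, hi2⟩, hc12, -⟩ := hh.exists_two haK hx4o hx4a
    obtain ⟨n, han, hn4, hne'⟩ : ∃ n, Adj a n ∧ x4 * n * x4 = n⁻¹ ∧ ¬ R e n := by
      by_cases h1 : R e c1
      · exact ⟨c2, hc2, hi2, fun h2 => hc12 (htrans (hsymm he hc1.2.1 h1) h2)⟩
      · exact ⟨c1, hc1, hi1, h1⟩
    rcases hsix n han.2.1 hn4 with h1 | h1 | h1 | h1 | h1 | h1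
    · exfalso
      have hA := hadjR han hd (hsymm hd han.2.1 h1)
      rcases hh.triangle hd he haK hde.2.2.1 hed hA.2.2.1 hea.2.2.1.symm with h2 | h2
      · exact had h2
      · exact n_ea h2
    · exact absurd h1 hne'
    · exfalso
      exact n_da (hC4 hde hdh heh hea.symm (hadjR han hh'K (hsymm hh'K han.2.1 h1)))
    · exact absurd h1 han.2.2.2
    · exfalso
      have haa' := hadjR han ha'K (hsymm ha'K han.2.1 h1)
      obtain ⟨g1, g2, ⟨hg1, hgi1⟩, -, -, -⟩ := hh.exists_two hfK hx4o hf4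
      rcases hsix g1 hg1.2.1 hgi1 with h2 | h2 | h2 | h2 | h2 | h2
      · have hA := (hadjR hg1 hd (hsymm hd hg1.2.1 h2)).symm
        rcases hnbr hde hx4e hdh hh'4 n_eh hA hf4 hx4d with h3 | h3
        exacts [n_fe h3, n_fh h3]
      · have hA := (hadjR hg1 he (hsymm he hg1.2.1 h2)).symm
        rcases hnbr hde.symm hx4d hea hx4a n_da hA hf4 hx4e with h3 | h3
        exacts [n_fd h3, n_fa h3]
      · have hA := (hadjR hg1 hh'K (hsymm hh'K hg1.2.1 h2)).symm
        rcases hnbr hdh.symm hx4d hha' hx4a' n_da' hA hf4 hh'4 with h3 | h3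
        exacts [n_fd h3, n_fa' h3]
      · have hA := (hadjR hg1 haK (hsymm haK hg1.2.1 h2)).symm
        rcases hnbr hea.symm hx4e haa' hx4a' n_ea' hA hf4 hx4a with h3 | h3
        exacts [n_fe h3, n_fa' h3]
      · have hA := (hadjR hg1 ha'K (hsymm ha'K hg1.2.1 h2)).symm
        rcases hnbr hha'.symm hh'4 haa'.symm hx4a n_ha hA hf4 hx4a' with h3 | h3
        exacts [n_fh h3, n_fa h3]
      · exact hg1.2.2.2 h2
    · exact hadjR han hfK (hsymm hfK han.2.1 h1)
  -- the relations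
  have ha3 : a ^ 3 = 1 := by rw [← haK.1, pow_orderOf_eq_one]
  have r2 : (a * x2) ^ 3 = 1 := hh.cube_eq_one haf.symm hfx2 hx22
  have r3 : (a * t) ^ 2 = 1 := by
    rw [sq, show a * t * (a * t) = a * (t * a * t) by simp only [mul_assoc], hta, mul_inv_cancel]
  have r4 : (a * x4) ^ 2 = 1 := by
    rw [sq, show a * x4 * (a * x4) = a * (x4 * a * x4) by simp only [mul_assoc], hx4a, mul_inv_cancel]
  have r23 : (x2 * t) ^ 3 = 1 := by
    obtain ⟨c1, c2⟩ := hh.conj_mem_kernel hu4d htt htd hu42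
    rw [show x2 * t = e * (t * u4 * t) by rw [hx2, hx4]; simp only [mul_assoc]]
    exact hh.cube_eq_one hde c1 c2
  have r34 : (t * x4) ^ 3 = 1 := by
    rw [show t * x4 = t * e * t by rw [hx4, mul_assoc], hte, inv_pow, ← he.1, pow_orderOf_eq_one, inv_one]
  have r24 : (x2 * x4) ^ 2 = 1 := by
    rw [sq]
    calc x2 * x4 * (x2 * x4) = x2 * (x4 * x2) * x4 := by simp only [mul_assoc]
      _ = (x2 * x2) * (x4 * x4) := by rw [hx24]; simp only [mul_assoc]
      _ = 1 := by rw [hx22, hx44, one_mul]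
  obtain ⟨φ, hφ⟩ := exists_hom_six ha3 (by rw [sq]; exact hx22) (by rw [sq]; exact htt)
    (by rw [sq]; exact hx44) r2 r3 r4 r23 r34 r24
  haveI : IsSimpleGroup (alternatingGroup (Fin 6)) :=
    alternatingGroup.isSimpleGroup (by simp)
  have hinjφ : Function.Injective φ := by
    rw [← MonoidHom.ker_eq_bot_iff]
    rcases (MonoidHom.normal_ker φ).eq_bot_or_eq_top with h1 | h1
    · exact h1
    · exfalso
      obtain ⟨g, hg⟩ := hφ
      have : φ g = 1 := MonoidHom.mem_ker.mp (h1 ▸ mem_top g)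
      exact ne_one_of_orderOf (by norm_num) haK.1 (hg.symm.trans this)
  have hcard : Nat.card φ.range = 360 := by
    rw [← Nat.card_congr (MonoidHom.ofInjective hinjφ).toEquiv, nat_card_alternatingGroup,
      Nat.card_eq_fintype_card, Fintype.card_fin]
    rfl
  have hidx := φ.range.card_mul_index
  rw [hcard, hh.card] at hidx
  exact hh.index φ.range (by omega)

theorem exists_index_seven (h : Nat.card G = 2520) : ∃ H : Subgroup G, H.index = 7 := by
  by_contra hcon
  push Not at hcon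
  exact Hyp.false_of_hyp ⟨h, hcon⟩

end Cfsg.Agent.Lib.SmallGroups.Order2520
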